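import Groth.Agent.HMProj.Weight
import Groth.Agent.FormsSLLib.HM
import Mathlib.AlgebraicGeometry.ValuativeCriterion

/-!
# Nonvanishing loci of sections of an ample bundle on a universally closed scheme are affine
-/

set_option autoImplicit false
set_option backward.isDefEq.respectTransparency false
set_option backward.isDefEq.respectTransparency.types false
set_option linter.style.haveILetI false

universe u

open CategoryTheory AlgebraicGeometry Opposite TopologicalSpace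

noncomputable section

namespace Groth.Agent.HMProj

/-- A homomorphism from a finite product to a domain factors through a factor. -/
theorem exists_factor_pi {ι : Type*} [Finite ι] {R : ι → Type*} [∀ i, CommRing (R i)] {K : Type*} [CommRing K]
    [IsDomain K] (ψ : (∀ i, R i) →+* K) : ∃ (i : ι) (φ : R i →+* K), ∀ x, ψ x = φ (x i) := by
  classical
  cases nonempty_fintype ι
  obtain ⟨i, hi⟩ : ∃ i, ψ (Pi.single i 1) ≠ 0 := by
    by_contra! h
    refine one_ne_zero (α := K) ?_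
    rw [← map_one ψ, ← Finset.univ_sum_single (1 : ∀ i, R i), map_sum]
    exact Finset.sum_eq_zero fun i _ => h i
  have h1 : ψ (Pi.single i 1) = 1 := by
    refine mul_left_cancel₀ hi ?_
    rw [← map_mul, ← Pi.single_mul, _root_.mul_one, _root_.mul_one]
  have hx : ∀ x, ψ x = ψ (Pi.single i (x i)) := fun x => by
    have e : Pi.single i (x i) = Pi.single i 1 * x := by
      funext j
      by_cases h : j = i
      · subst h; simp
      · simp [h]
    rw [e, map_mul, h1, _root_.one_mul]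
  exact ⟨i,
    { toFun := fun r => ψ (Pi.single i r)
      map_one' := h1
      map_mul' := fun r s => by rw [Pi.single_mul, map_mul]
      map_zero' := by rw [Pi.single_zero, map_zero]
      map_add' := fun r s => by rw [Pi.single_add, map_add] }, hx⟩

/-- The value of a section at a point with values in a ring. -/
def ptVal {X : Scheme.{u}} {K : Type u} [CommRing K] (i : Spec (CommRingCat.of K) ⟶ X) (U : X.Opens)
    (h : ⊤ ≤ i ⁻¹ᵁ U) : Γ(X, U) →+* K :=
  (i.appLE U ⊤ h ≫ (Scheme.ΓSpecIso (CommRingCat.of K)).hom).hom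

theorem ptVal_res {X : Scheme.{u}} {K : Type u} [CommRing K] (i : Spec (CommRingCat.of K) ⟶ X) {U W : X.Opens}
    (hle : W ≤ U) (h : ⊤ ≤ i ⁻¹ᵁ W) (c : Γ(X, U)) :
    ptVal i W h (X.presheaf.map (homOfLE hle).op c) = ptVal i U (h.trans (i.preimage_mono hle)) c := by
  simp only [ptVal, CommRingCat.hom_comp, RingHom.comp_apply]
  refine congrArg _ ?_
  exact congrArg (fun f => (ConcreteCategory.hom f) c) (Scheme.Hom.map_appLE i h (homOfLE hle).op)

theorem ptVal_map {X : Scheme.{u}} {R K : Type u} [CommRing R] [CommRing K] (α : R →+* K)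
    (P : Spec (CommRingCat.of R) ⟶ X) (U : X.Opens) (h : ⊤ ≤ P ⁻¹ᵁ U)
    (h' : ⊤ ≤ (Spec.map (CommRingCat.ofHom α) ≫ P) ⁻¹ᵁ U) (c : Γ(X, U)) :
    ptVal (Spec.map (CommRingCat.ofHom α) ≫ P) U h' c = α (ptVal P U h c) := by
  have e : (Spec.map (CommRingCat.ofHom α) ≫ P).appLE U ⊤ h' ≫ (Scheme.ΓSpecIso (CommRingCat.of K)).hom =
      (P.appLE U ⊤ h ≫ (Scheme.ΓSpecIso (CommRingCat.of R)).hom) ≫ CommRingCat.ofHom α := by
    rw [← Scheme.Hom.appLE_comp_appLE (Spec.map (CommRingCat.ofHom α)) P U ⊤ ⊤ h le_rfl, Category.assoc,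
      Category.assoc]
    refine congrArg (P.appLE U ⊤ h ≫ ·) ?_
    exact (congrArg (· ≫ (Scheme.ΓSpecIso (CommRingCat.of K)).hom)
      (Scheme.Hom.appLE_eq_app (Spec.map (CommRingCat.ofHom α)))).trans
      (Scheme.ΓSpecIso_naturality (CommRingCat.ofHom α))
  exact congrArg (fun f => (ConcreteCategory.hom f) c) e

theorem ptVal_fromSpec {X : Scheme.{u}} {K : Type u} [CommRing K] {W : X.Opens} (hW : IsAffineOpen W)
    (φ : Γ(X, W) →+* K) (h : ⊤ ≤ (Spec.map (CommRingCat.ofHom φ) ≫ hW.fromSpec) ⁻¹ᵁ W) (c : Γ(X, W)) :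
    ptVal (Spec.map (CommRingCat.ofHom φ) ≫ hW.fromSpec) W h c = φ c := by
  have h₀ : ⊤ ≤ hW.fromSpec ⁻¹ᵁ W := hW.fromSpec_preimage_self.ge
  refine (ptVal_map (R := Γ(X, W)) φ hW.fromSpec W h₀ h c).trans (congrArg φ ?_)
  show (ConcreteCategory.hom (hW.fromSpec.appLE W ⊤ h₀ ≫ (Scheme.ΓSpecIso Γ(X, W)).hom)) c = c
  have e : hW.fromSpec.appLE W ⊤ h₀ ≫ (Scheme.ΓSpecIso Γ(X, W)).hom = 𝟙 _ := by
    rw [Scheme.Hom.appLE, hW.fromSpec_app_self, Category.assoc, Category.assoc, ← Functor.map_comp_assoc,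
      Subsingleton.elim (_ ≫ (homOfLE h₀).op) (𝟙 (op (⊤ : (Spec Γ(X, W)).Opens))), CategoryTheory.Functor.map_id,
      Category.id_comp, Iso.inv_hom_id]
  rw [e]
  rfl

variable {S : Scheme.{u}} [IsAffine S] {X V : Over S} [UniversallyClosed X.hom] {π : V ⟶ X} [IsAffineHom π.left]
  (A : GLinSh.LinAtlas π)

/-- On a universally closed scheme covered by affine nonvanishing loci every nonvanishing locus is affine. -/
theorem isAffineOpen_nvOpen [CompactSpace X.left]
    (hcov : ∀ x : X.left, ∃ (m : ℕ) (g : Γ(V.left, ⊤)), 1 ≤ m ∧ GLinSh.HasWeight A.chart m g ∧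
      x ∈ GLinSh.nonvanishing π g ∧ ∃ U : X.left.Opens, (U : Set X.left) = GLinSh.nonvanishing π g ∧ IsAffineOpen U)
    {n : ℕ} (hn : 0 < n) {f : Γ(V.left, ⊤)} (hf : GLinSh.HasWeight A.chart n f) :
    IsAffineOpen (nvOpen A hn hf) := by
  classical
  choose m g hm hg hmem U hU hUa using hcov
  obtain ⟨s, hs⟩ := (CompactSpace.isCompact_univ (X := X.left)).elim_finite_subcover
    (fun p : X.left => ((U p : X.left.Opens) : Set X.left)) (fun p => (U p).2)
    (fun p _ => Set.mem_iUnion.2 ⟨p, by rw [hU p]; exact hmem p⟩)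
  have hs' : ∀ x : X.left, ∃ p : s, x ∈ U p.1 := fun x => by
    obtain ⟨p, hp, hx⟩ := Set.mem_iUnion₂.1 (hs (Set.mem_univ x))
    exact ⟨⟨p, hp⟩, hx⟩
  let D := nvOpen A hn hf
  have hF : ∀ p : s, GLinSh.HasWeight A.chart (m p.1 * n) (f ^ m p.1) := fun p => hasWeight_pow A hf _
  have hG : ∀ p : s, GLinSh.HasWeight A.chart (m p.1 * n) (g p.1 ^ n) := fun p => by
    rw [mul_comm]; exact hasWeight_pow A (hg p.1) _
  have hmn : ∀ p : s, 0 < m p.1 * n := fun p => Nat.mul_pos (hm p.1) hn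
  have nvF : ∀ p : s, GLinSh.nonvanishing π (f ^ m p.1) = GLinSh.nonvanishing π f :=
    fun p => nonvanishing_pow A hn hf (hm p.1)
  have nvG : ∀ p : s, GLinSh.nonvanishing π (g p.1 ^ n) = (U p.1 : Set X.left) := fun p =>
    (nonvanishing_pow A (hm p.1) (hg p.1) hn).trans (hU p.1).symm
  choose r hr using fun p : s => exists_ratio A (hmn p) (hF p) (hG p) (D := D)
    (by rw [nvF p, coe_nvOpen])
  choose q hq using fun p : s => exists_ratio A (hmn p) (hG p) (hF p) (D := U p.1) (nvG p).ge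
  have hrq : ∀ p : s, rX (inf_le_left : D ⊓ U p.1 ≤ D) (r p) * rX (inf_le_right : D ⊓ U p.1 ≤ U p.1) (q p) = 1 :=
    fun p => by
    refine IsRatio.unique A (hmn p) (hF p) (D := D ⊓ U p.1) (s := f ^ m p.1)
      (fun x hx => by rw [nvF p]; exact hx.1) ?_ ?_
    · have e₁ : IsRatio π (D ⊓ U p.1) _ _ _ := (hr p).res inf_le_left
      have e₂ : IsRatio π (D ⊓ U p.1) _ _ _ := (hq p).res inf_le_right
      unfold IsRatio at e₁ e₂ ⊢
      conv_lhs => rw [e₂, e₁]
      rw [← mul_assoc, ← map_mul, mul_comm (rX inf_le_right (q p))]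
    · unfold IsRatio
      rw [map_one, one_mul]
  have hbr : ∀ p : s, X.left.basicOpen (r p) = D ⊓ U p.1 := fun p => by
    refine SetLike.coe_injective ?_
    rw [basicOpen_ratio A (hmn p) (hF p) (hG p) (by rw [nvF p, coe_nvOpen]) (hr p), nvG p, Opens.coe_inf]
  have haff : ∀ p : s, IsAffineOpen (D ⊓ U p.1) := fun p => by
    have e : X.left.basicOpen (q p) = D ⊓ U p.1 := by
      refine SetLike.coe_injective ?_
      rw [basicOpen_ratio A (hmn p) (hG p) (hF p) (nvG p).ge (hq p), nvF p, Opens.coe_inf, coe_nvOpen, Set.inter_comm]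
    exact e ▸ (hUa p.1).basicOpen _
  refine isAffineOpen_of_isAffineOpen_basicOpen D (Set.range r) ?_ (by rintro _ ⟨p, rfl⟩; rw [hbr p]; exact haff p)
  by_contra hJ
  obtain ⟨J, hJm, hJle⟩ := Ideal.exists_le_maximal _ hJ
  haveI := hJm.isPrime
  let o : Γ(X.left, D) →+* ∀ p : s, Γ(X.left, D ⊓ U p.1) :=
    RingHom.pi fun p => (X.left.presheaf.map (homOfLE (inf_le_left : D ⊓ U p.1 ≤ D)).op).hom
  have hker : RingHom.ker o ≤ J := by
    intro c hc
    have : c = 0 := by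
      refine X.left.sheaf.eq_of_locally_eq' (fun p : s => D ⊓ U p.1) D (fun p => homOfLE inf_le_left)
        (fun x hx => ?_) _ _ fun p => ?_
      · obtain ⟨p, hp⟩ := hs' x
        exact Opens.mem_iSup.2 ⟨p, hx, hp⟩
      · exact (congrFun hc p).trans (map_zero _).symm
    rw [this]; exact J.zero_mem
  obtain ⟨K, _, ψ, O, hO, hm'⟩ := FormsSLLib.exists_valuation_specialising o J hker
  obtain ⟨p₀, φ, hφ⟩ := exists_factor_pi ψ
  let W := D ⊓ U p₀.1
  let i₁ : Spec (CommRingCat.of K) ⟶ X.left := Spec.map (CommRingCat.ofHom φ) ≫ (haff p₀).fromSpec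
  have hi : ⊤ ≤ i₁ ⁻¹ᵁ W := by
    intro z _
    show (haff p₀).fromSpec (Spec.map (CommRingCat.ofHom φ) z) ∈ W
    exact (haff p₀).fromSpec_preimage_self.ge trivial
  have hio : ∀ c : Γ(X.left, D), ptVal i₁ D (hi.trans (i₁.preimage_mono inf_le_left)) c = ψ (o c) := fun c => by
    rw [hφ, ← ptVal_res i₁ (inf_le_left : W ≤ D) hi]
    exact ptVal_fromSpec (haff p₀) φ hi _
  let χ : Γ(S, ⊤) →+* O :=
    ((ψ.comp o).comp (X.hom.appLE ⊤ D le_top).hom).codRestrict O.toSubring fun z => hO _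
  let i₂ : Spec (CommRingCat.of O) ⟶ S := Spec.map (CommRingCat.ofHom χ) ≫ S.isoSpec.inv
  have sq : CommSq i₁ (Spec.map (CommRingCat.ofHom (algebraMap O K))) X.hom i₂ := by
    constructor
    simp only [i₁, i₂, Category.assoc]
    rw [← IsAffineOpen.SpecMap_appLE_fromSpec X.hom (isAffineOpen_top S) (haff p₀) le_top,
      IsAffineOpen.fromSpec_top, ← Spec.map_comp_assoc, ← Spec.map_comp_assoc]
    refine congrArg (fun z => Spec.map z ≫ S.isoSpec.inv) ?_
    refine CommRingCat.hom_ext (RingHom.ext fun z => ?_)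
    show φ (X.hom.appLE ⊤ W le_top z) = ψ (o (X.hom.appLE ⊤ D le_top z))
    rw [hφ]
    exact congrArg φ (congrArg (fun f => (ConcreteCategory.hom f) z)
      (Scheme.Hom.appLE_map X.hom (U := ⊤) (fun x _ => Set.mem_univ (X.hom x) : D ≤ X.hom ⁻¹ᵁ (⊤ : S.Opens)) (homOfLE (inf_le_left : W ≤ D)).op)).symm
  have hex : ValuativeCriterion.Existence X.hom := by
    have h : UniversallyClosed X.hom := inferInstance
    rw [UniversallyClosed.eq_valuativeCriterion] at h
    exact h.1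
  obtain ⟨⟨P, hP, -⟩⟩ := (hex { R := O, K := K, i₁ := i₁, i₂ := i₂, commSq := sq }).exists_lift
  have hP' : Spec.map (CommRingCat.ofHom (algebraMap O K)) ≫ P = i₁ := hP
  obtain ⟨p, hp⟩ := hs' (P (IsLocalRing.closedPoint O))
  have hPU : P ⁻¹ᵁ U p.1 = ⊤ := IsLocalRing.closed_point_mem_iff.1 hp
  have hiU : ⊤ ≤ i₁ ⁻¹ᵁ U p.1 := by
    rw [← hP', Scheme.Hom.comp_preimage, hPU]; exact le_rfl
  have hiDU : ⊤ ≤ i₁ ⁻¹ᵁ (D ⊓ U p.1) := fun z hz => ⟨(inf_le_left : W ≤ D) (hi hz), hiU hz⟩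
  have e := congrArg (ptVal i₁ (D ⊓ U p.1) hiDU) (hrq p)
  rw [map_mul, map_one, rX, rX, ptVal_res, ptVal_res, hio] at e
  have hqO : ptVal i₁ (U p.1) hiU (q p) ∈ O := by
    have := ptVal_map (algebraMap O K) P (U p.1) hPU.ge (by rw [hP']; exact hiU) (q p)
    have key : ∀ (i i' : Spec (CommRingCat.of K) ⟶ X.left) (h : ⊤ ≤ i ⁻¹ᵁ U p.1) (h' : ⊤ ≤ i' ⁻¹ᵁ U p.1), i = i' →
        ptVal i (U p.1) h (q p) = ptVal i' (U p.1) h' (q p) := by
      rintro i i' h h' rfl; rfl
    rw [key i₁ _ hiU (by rw [hP']; exact hiU) hP'.symm, this]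
    exact (ptVal P (U p.1) hPU.ge (q p)).2
  have hnu : ψ (o (r p)) ∈ O.nonunits := hm' _ (hJle (Ideal.subset_span ⟨p, rfl⟩))
  rw [ValuationSubring.mem_nonunits_iff] at hnu
  have h1 := congrArg O.valuation e
  rw [map_mul, map_one] at h1
  have h2 := O.valuation_le_one ⟨_, hqO⟩
  exact absurd h1 (mul_lt_one_of_lt_of_le hnu h2).ne

end Groth.Agent.HMProj
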