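import Groth.Agent.HMProj.Weight
import Groth.Agent.HMTorus.Order

/-!
# Translates of sections of a linearised line bundle
-/

set_option autoImplicit false
set_option backward.isDefEq.respectTransparency false
set_option backward.isDefEq.respectTransparency.types false
set_option linter.style.haveILetI false

universe u

open CategoryTheory MonoidalCategory CartesianMonoidalCategory MonObj AlgebraicGeometry Opposite TopologicalSpace

noncomputable section

namespace Groth.Agent.HMProj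

open HMTorus

variable {k : Type u} [Field k]

/-- An open subscheme as a scheme over the base. -/
abbrev opO {Y : Over (Spec (CommRingCat.of k))} (U : Y.left.Opens) : Over (Spec (CommRingCat.of k)) :=
  Over.mk (U.ι ≫ Y.hom)

/-- Its inclusion. -/
abbrev inclO {Y : Over (Spec (CommRingCat.of k))} (U : Y.left.Opens) : opO U ⟶ Y := Over.homMk U.ι rfl

theorem top_le_inclO {Y : Over (Spec (CommRingCat.of k))} {U U' : Y.left.Opens} (h : U ≤ U') :
    ⊤ ≤ (inclO U).left ⁻¹ᵁ U' :=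
  (Scheme.Opens.ι_preimage_self U).ge.trans ((inclO U).left.preimage_mono h)

theorem valAt_inclO_bijective {Y : Over (Spec (CommRingCat.of k))} (U : Y.left.Opens) :
    Function.Bijective fun c : Γ(Y.left, U) => valAt c (inclO U) (top_le_inclO le_rfl) := by
  have h : IsIso (U.ι.appLE U ⊤ (top_le_inclO (Y := Y) le_rfl)) := by
    rw [Scheme.Opens.ι_appLE]
    rw [Subsingleton.elim (homOfLE _) (eqToHom U.ι_image_top)]
    infer_instance
  exact ConcreteCategory.bijective_of_isIso (U.ι.appLE U ⊤ (top_le_inclO (Y := Y) le_rfl))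

theorem valAt_res {Y : Over (Spec (CommRingCat.of k))} {U W : Y.left.Opens} (hle : W ≤ U) (c : Γ(Y.left, U))
    {T : Over (Spec (CommRingCat.of k))} (x : T ⟶ Y) (h : ⊤ ≤ x.left ⁻¹ᵁ W) :
    valAt (Y.left.presheaf.map (homOfLE hle).op c) x h = valAt c x (h.trans (x.left.preimage_mono hle)) :=
  congrArg (fun f => (ConcreteCategory.hom f) c) (Scheme.Hom.map_appLE x.left h (homOfLE hle).op)

variable {G X : Over (Spec (CommRingCat.of k))} [GrpObj G] {a : AlgGrp.Action G X} (B : GLinSh.LinBun G a)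

/-- Translates of functions of weight `n` by rational points have weight `n`. -/
theorem hasWeight_transl (g : ∀ T : Over (Spec (CommRingCat.of k)), T ⟶ G)
    (hg : ∀ {T T' : Over (Spec (CommRingCat.of k))} (q : T' ⟶ T), q ≫ g T = g T') {n : ℕ} {f : Γ(B.V.left, ⊤)}
    (hf : GLinSh.HasWeight B.atlas.chart n f) :
    GLinSh.HasWeight B.atlas.chart n ((lift (g B.V) (𝟙 B.V) ≫ B.lift.act).left.appTop f) := by
  let τ := lift (g B.V) (𝟙 B.V) ≫ B.lift.act
  let τX := lift (g X) (𝟙 X) ≫ a.act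
  refine hasWeight_of_charts B.atlas fun x => ?_
  obtain ⟨U, hxU, y, hy⟩ := B.atlas.cover x
  obtain ⟨U', hxU', y', hy'⟩ := B.atlas.cover (τX.left.base x)
  obtain ⟨c', hc'⟩ := hf U' y' hy'
  obtain ⟨c, hc⟩ := exists_cval B hy hy'
  let W := U ⊓ τX.left ⁻¹ᵁ U'
  refine ⟨U, y, hy, W, inf_le_left, ⟨hxU, hxU'⟩, ?_⟩
  let xW : opO W ⟶ X := inclO W
  let v : opO (B.π.left ⁻¹ᵁ W) ⟶ B.V := inclO _
  let q : opO (B.π.left ⁻¹ᵁ W) ⟶ opO W := Over.homMk (B.π.left.resLE W (B.π.left ⁻¹ᵁ W) le_rfl) (by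
    simp only [Over.mk_hom, Scheme.Hom.resLE_comp_ι_assoc, Over.w])
  have hq : v ≫ B.π = q ≫ xW := Over.OverMorphism.ext (Scheme.Hom.resLE_comp_ι _ _).symm
  have hτ : xW ≫ τX = lift (g (opO W)) xW ≫ a.act := by
    simp only [τX]
    rw [← Category.assoc, comp_lift, hg, Category.comp_id]
  have hWU : xW.left ⁻¹ᵁ U = ⊤ := top_le_iff.1 (top_le_inclO inf_le_left)
  have hWU' : (xW ≫ τX).left ⁻¹ᵁ U' = ⊤ :=
    top_le_iff.1 (show ⊤ ≤ xW.left ⁻¹ᵁ (τX.left ⁻¹ᵁ U') from top_le_inclO inf_le_right)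
  have hWl := top_le_lift (a := a) (h := g (opO W)) hWU (hτ ▸ hWU')
  let d := valAt c' (xW ≫ τX) hWU'.ge * cval c (g (opO W)) xW hWl ^ n
  obtain ⟨d₀, hd₀⟩ := (valAt_inclO_bijective W).2 d
  refine ⟨d₀, (valAt_inclO_bijective (B.π.left ⁻¹ᵁ W)).1 ?_⟩
  have hvU : (v ≫ B.π).left ⁻¹ᵁ U = ⊤ := by
    rw [hq]; show q.left ⁻¹ᵁ (xW.left ⁻¹ᵁ U) = ⊤; rw [hWU]; rfl
  have e1 : v ≫ τ = lift (g _) v ≫ B.lift.act := by
    simp only [τ]; rw [← Category.assoc, comp_lift, hg, Category.comp_id]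
  have e2 : (v ≫ τ) ≫ B.π = q ≫ xW ≫ τX := by
    rw [e1, lift_act_π, hq, hτ, ← Category.assoc, comp_lift, hg]
  have h1 : ⊤ ≤ (v ≫ τ).left ⁻¹ᵁ (B.π.left ⁻¹ᵁ U') := by
    show ⊤ ≤ ((v ≫ τ) ≫ B.π).left ⁻¹ᵁ U'
    rw [e2]
    show ⊤ ≤ q.left ⁻¹ᵁ ((xW ≫ τX).left ⁻¹ᵁ U')
    rw [hWU']; exact le_rfl
  have h2 : ⊤ ≤ v.left ⁻¹ᵁ (B.π.left ⁻¹ᵁ U) := hvU.ge
  have h3 : ⊤ ≤ (q ≫ xW ≫ τX).left ⁻¹ᵁ U' := by rw [← e2]; exact h1
  have ef := appTop_of_weight B.π hc' (v ≫ τ) e2 h1 h3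
  have hWV := top_le_lift (a := a) (h := g (opO (B.π.left ⁻¹ᵁ W))) hvU (U' := U') (by
    rw [← lift_act_π B, ← e1, e2]; exact top_le_iff.1 h3)
  have ev := hc (g _) (v ≫ B.π) hWV v rfl (by rw [← e1]; exact h1) h2
  rw [evalFn_congr B.π y' e1 h1 (by rw [← e1]; exact h1), ev, mul_pow, ← _root_.mul_assoc,
    valAt_comp c' q (xW ≫ τX) rfl hWU'.ge h3,
    cval_comp c q (hg q) hq.symm hWl hWV, ← map_pow, ← map_mul,
    show valAt c' (xW ≫ τX) hWU'.ge * cval c (g (opO W)) xW hWl ^ n = d from rfl, ← hd₀] at ef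
  show valAt (GLinSh.resTop B.π W (τ.left.appTop f)) v (top_le_inclO le_rfl) =
    valAt (B.π.left.app W d₀ * GLinSh.res B.π inf_le_left y ^ n) v (top_le_inclO le_rfl)
  have el : valAt (GLinSh.resTop B.π W (τ.left.appTop f)) v (top_le_inclO le_rfl) = (v ≫ τ).left.appTop f :=
    (valAt_res le_top _ v _).trans ((congrArg (fun φ => (ConcreteCategory.hom φ) (τ.left.appTop f))
      (Scheme.Hom.appLE_eq_app v.left)).trans (GmPts.appTop_comp_apply v.left τ.left f).symm)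
  have er : valAt (B.π.left.app W d₀) v (top_le_inclO le_rfl) =
      valAt d₀ (v ≫ B.π) (top_le_inclO (Y := B.V) le_rfl) :=
    congrArg (fun φ => (ConcreteCategory.hom φ) d₀)
      ((congrArg (· ≫ v.left.appLE _ ⊤ _) (Scheme.Hom.appLE_eq_app B.π.left)).symm.trans
        (Scheme.Hom.appLE_comp_appLE v.left B.π.left W _ ⊤ le_rfl (top_le_inclO le_rfl)))
  rw [el, ef]
  unfold valAt at er ⊢
  rw [map_mul, map_pow, er]
  refine congrArg₂ (fun s t => s * t ^ n) ?_ ?_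
  · exact (valAt_comp d₀ q xW hq.symm (top_le_inclO le_rfl) (top_le_inclO (Y := B.V) le_rfl)).symm
  · exact (valAt_res (Y := B.V) (B.π.left.preimage_mono (inf_le_left : W ≤ U)) y v (top_le_inclO le_rfl)).symm

end Groth.Agent.HMProj
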