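import Groth.Agent.HMProj.OneParam
import Groth.Agent.HMProj.Translate
import Groth.Agent.HMTorus.Main
import Groth.Agent.ComodLib.Mu
import Groth.Prelude.Def_HMNum

/-!
# The affine cone of a linearised ample bundle
-/

set_option autoImplicit false
set_option backward.isDefEq.respectTransparency false
set_option backward.isDefEq.respectTransparency.types false
set_option linter.style.haveILetI false

universe u

open CategoryTheory MonoidalCategory CartesianMonoidalCategory MonObj AlgebraicGeometry TensorProduct WithConv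

noncomputable section

namespace Groth.Agent.HMProj

open GrpSchLib GrpSchLib.Kunneth GrpSchLib.AffineHopf GrpSchLib.LineVec HMTorus

variable {k : Type u} [Field k] {G X : Over (Spec (CommRingCat.of k))} [GrpObj G]
  {a : AlgGrp.Action G X} (B : GLinSh.LinBun G a)

/-- Functions of weight `n` as a subspace. -/
def wtSub (n : ℕ) : Submodule k (Fn B.V) where
  carrier := {f | GLinSh.HasWeight B.atlas.chart n f}
  add_mem' := hasWeight_add B.atlas
  zero_mem' := hasWeight_zero B.atlas n
  smul_mem' c f hf := by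
    have h := hasWeight_mul B.atlas (hasWeight_appTop B.atlas (algebraMap k (Fn X) c)) hf
    rw [_root_.zero_add] at h
    show GLinSh.HasWeight B.atlas.chart n (c • f)
    rw [Algebra.smul_def, ← (ev B.π).commutes c]
    exact h

theorem mem_wtSub {n : ℕ} {f : Fn B.V} : f ∈ wtSub B n ↔ GLinSh.HasWeight B.atlas.chart n f := Iff.rfl

/-- A homogeneous expression in functions of weight `N`. -/
theorem hasWeight_aeval {κ : Type u} {w : κ → Fn B.V} {N : ℕ} (hw : ∀ i, GLinSh.HasWeight B.atlas.chart N (w i))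
    {F : MvPolynomial κ k} {d : ℕ} (hF : F.IsHomogeneous d) :
    GLinSh.HasWeight B.atlas.chart (d * N) (MvPolynomial.aeval w F) := by
  classical
  have hprod : ∀ (e : κ →₀ ℕ) (s : Finset κ),
      GLinSh.HasWeight B.atlas.chart ((∑ i ∈ s, e i) * N) (∏ i ∈ s, w i ^ e i) := fun e s => by
    induction s using Finset.induction with
    | empty => simpa using hasWeight_one B.atlas
    | insert j s hj ih =>
      rw [Finset.sum_insert hj, Finset.prod_insert hj, add_mul]
      exact hasWeight_mul B.atlas (hasWeight_pow B.atlas (hw j) (e j)) ih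
  rw [MvPolynomial.aeval_def, MvPolynomial.eval₂_eq]
  refine hasWeight_sum B.atlas _ _ fun e he => ?_
  have hd : ∑ i ∈ e.support, e i = d := by
    have := hF (MvPolynomial.mem_support_iff.1 he)
    rw [Finsupp.weight_apply, Finsupp.sum] at this
    simpa using this
  have h := (wtSub B (d * N)).smul_mem (F.coeff e) (hd ▸ hprod e e.support)
  rwa [Algebra.smul_def] at h

/-- A span whose members all vanish over a point vanishes there. -/
theorem exists_mem_nonvanishing {κ : Type u} [Fintype κ] {w : κ → Fn B.V} {f : Fn B.V}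
    (hf : f ∈ Submodule.span k (Set.range w)) {x : X.left} (hx : x ∈ GLinSh.nonvanishing B.π f) :
    ∃ i, x ∈ GLinSh.nonvanishing B.π (w i) := by
  obtain ⟨v, hv, rfl⟩ := hx
  by_contra! h
  refine (Scheme.evaluation_ne_zero_iff_mem_basicOpen B.V.left v (TopologicalSpace.Opens.mem_top v) f).2 hv ?_
  clear hv
  induction hf using Submodule.span_induction with
  | mem z hz =>
    obtain ⟨i, rfl⟩ := hz
    exact (Scheme.evaluation_eq_zero_iff_notMem_basicOpen B.V.left v (TopologicalSpace.Opens.mem_top v) _).2 fun hm => h i ⟨v, hm, rfl⟩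
  | zero => exact map_zero _
  | add p q _ _ hp hq => exact (map_add _ p q).trans (by rw [hp, hq, add_zero])
  | smul c p _ hp =>
    rw [Algebra.smul_def]
    exact (map_mul _ _ _).trans (by rw [hp, mul_zero])

/-- The value of functions at a rational point. -/
def valv {V : Over (Spec (CommRingCat.of k))} (v : 𝟙_ (Over (Spec (CommRingCat.of k))) ⟶ V) : Fn V →ₐ[k] k :=
  (toFn (k := k) (A := k)).symm.toAlgHom.comp (ev (toUnit (sp k k) ≫ v))

theorem valv_eq_gr {V : Over (Spec (CommRingCat.of k))} (v : 𝟙_ (Over (Spec (CommRingCat.of k))) ⟶ V) (f : Fn V) :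
    valv v f = gr (k := k) k ((toUnit (sp k k)).left.appTop (v.left.appTop f)) := by
  show gr (k := k) k ((toUnit (sp k k) ≫ v).left.appTop f) = _
  rw [Over.comp_left, GmPts.appTop_comp_apply]

theorem appTop_eq_of_valv {V : Over (Spec (CommRingCat.of k))} (v : 𝟙_ (Over (Spec (CommRingCat.of k))) ⟶ V)
    (f : Fn V) : v.left.appTop f = algebraMap k (Fn (𝟙_ (Over (Spec (CommRingCat.of k))))) (valv v f) := by
  have h : ev (pt1 (k := k)) (toFn (k := k) (A := k) (valv v f)) = ev (pt1 ≫ toUnit (sp k k) ≫ v) f := by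
    rw [← ev_ev]
    exact congrArg (ev (pt1 (k := k))) ((toFn (k := k) (A := k)).apply_symm_apply _)
  rw [← Category.assoc, pt1_toUnit, Category.id_comp] at h
  refine (h.symm.trans ?_)
  rw [show toFn (k := k) (A := k) (valv v f) = algebraMap k _ (valv v f) from (toFn (k := k) (A := k)).commutes _,
    AlgHom.commutes]

theorem isUnit_appTop_of_valv_ne {V : Over (Spec (CommRingCat.of k))} (v : 𝟙_ (Over (Spec (CommRingCat.of k))) ⟶ V)
    {f : Fn V} (h : valv v f ≠ 0) : IsUnit (v.left.appTop f) := by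
  rw [appTop_eq_of_valv]
  exact (isUnit_iff_ne_zero.2 h).map _

theorem mem_nonvanishing_of_valv_ne {v : 𝟙_ (Over (Spec (CommRingCat.of k))) ⟶ B.V} {f : Fn B.V} (h : valv v f ≠ 0) :
    (v ≫ B.π).left.base (IsLocalRing.closedPoint k) ∈ GLinSh.nonvanishing B.π f := by
  refine ⟨v.left.base (IsLocalRing.closedPoint k), ?_, rfl⟩
  show IsLocalRing.closedPoint k ∈ v.left ⁻¹ᵁ B.V.left.basicOpen f
  rw [Scheme.preimage_basicOpen_top, Scheme.basicOpen_of_isUnit _ (isUnit_appTop_of_valv_ne v h)]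
  trivial

theorem valv_ne_of_mem {x : 𝟙_ (Over (Spec (CommRingCat.of k))) ⟶ X} {v : 𝟙_ (Over (Spec (CommRingCat.of k))) ⟶ B.V}
    (hv : v ≫ B.π = x) {U₀ : X.left.Opens} {y₀ : Γ(B.V.left, B.π.left ⁻¹ᵁ U₀)} (hy₀ : y₀ ∈ B.atlas.chart U₀)
    (hU₀ : x.left ⁻¹ᵁ U₀ = ⊤) (h₀ : ⊤ ≤ v.left ⁻¹ᵁ (B.π.left ⁻¹ᵁ U₀)) (hv₀ : HMNum.evalFn B.π y₀ v h₀ = 1)
    {n : ℕ} {f : Fn B.V} (hf : GLinSh.HasWeight B.atlas.chart n f)
    (hx : x.left.base (IsLocalRing.closedPoint k) ∈ GLinSh.nonvanishing B.π f) : valv v f ≠ 0 := by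
  obtain ⟨c, hc⟩ := hf U₀ y₀ hy₀
  intro h0
  refine valAt_ne_zero_of_mem B.π hc x hU₀.ge hx ?_
  have e := appTop_of_weight B.π hc v hv h₀ hU₀.ge
  rw [hv₀, one_pow, _root_.mul_one, appTop_eq_of_valv, h0, map_zero] at e
  exact e.symm

section Group

variable {A : Type u} [CommRing A] [HopfAlgebra k A] (j : sp k A ⟶ G) [IsMonHom j]

omit [IsMonHom j] in
theorem whisker_tensor (V : Over (Spec (CommRingCat.of k))) : (j ▷ V) ≫ snd G V = snd (sp k A) V :=
  whiskerRight_snd _ _

/-- The lifted action pulled back to the spectrum of the Hopf algebra. -/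
def liftA : AlgGrp.Action (sp k A) B.V where
  act := (j ▷ B.V) ≫ B.lift.act
  one_act := by
    rw [← comp_whiskerRight_assoc, IsMonHom.one_hom, B.lift.one_act]
  mul_act := by
    let T₀ := (sp k A ⊗ sp k A) ⊗ B.V
    let g : T₀ ⟶ sp k A := fst _ _ ≫ fst _ _
    let h : T₀ ⟶ sp k A := fst _ _ ≫ snd _ _
    let v : T₀ ⟶ B.V := snd _ _
    have e : lift (lift g h) v = 𝟙 T₀ := by
      apply CartesianMonoidalCategory.hom_ext
      · apply CartesianMonoidalCategory.hom_ext <;> simp [g, h, T₀]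
      · simp [v, T₀]
    rw [← Category.id_comp ((μ[sp k A] ▷ B.V) ≫ _), ← Category.id_comp ((α_ _ _ _).hom ≫ _), ← e,
      lift_whiskerRight_assoc, lift_lift_associator_hom_assoc, lift_whiskerLeft_assoc]
    simp only [← Category.assoc, lift_whiskerRight, GrpSchLib.act_mul, ← MonObj.mul_comp]
    rw [← Hom.mul_def]

theorem lift_liftA {T : Over (Spec (CommRingCat.of k))} (h : T ⟶ sp k A) (v : T ⟶ B.V) :
    lift h v ≫ (liftA B j).act = lift (h ≫ j) v ≫ B.lift.act := by
  rw [liftA, ← Category.assoc, lift_whiskerRight]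

theorem isInvFn_liftA_iff [IsIso j] (f : Fn B.V) : GLinSh.IsInvFn (liftA B j) f ↔ GLinSh.IsInvFn B.lift f := by
  have e1 : (liftA B j).act.left.appTop f = (j ▷ B.V).left.appTop (B.lift.act.left.appTop f) :=
    GmPts.appTop_comp_apply _ _ _
  have e2 : (snd (sp k A) B.V).left.appTop f = (j ▷ B.V).left.appTop ((snd G B.V).left.appTop f) := by
    rw [← GmPts.appTop_comp_apply, ← Over.comp_left, whiskerRight_snd]
  unfold GLinSh.IsInvFn
  rw [e1, e2]
  refine ⟨fun h => ?_, congrArg _⟩
  haveI : IsIso ((Over.forget _).map (j ▷ B.V)) := inferInstance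
  haveI : IsIso (j ▷ B.V).left := this
  exact (ConcreteCategory.bijective_of_isIso (j ▷ B.V).left.appTop).1 h

theorem wtSub_stable (n : ℕ) (g : A →ₐ[k] k) (f : Fn B.V) (hf : f ∈ wtSub B n) : T' (liftA B j) g f ∈ wtSub B n := by
  have h := hasWeight_transl B (fun T => kpt g T ≫ j) (fun q => by rw [← Category.assoc, comp_kpt]) hf
  have e : tr (liftA B j) g = lift (kpt g B.V ≫ j) (𝟙 B.V) ≫ B.lift.act := lift_liftA B j _ _
  show GLinSh.HasWeight B.atlas.chart n ((tr (liftA B j) g).left.appTop f)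
  rw [e]
  exact h

variable [IsProper X.hom]

theorem isSeparated_V : IsSeparated B.V.hom := by
  haveI := B.atlas.affine
  rw [← Over.w B.π]
  infer_instance

theorem quasiCompact_V : QuasiCompact B.V.hom := by
  haveI := B.atlas.affine
  rw [← Over.w B.π]
  infer_instance

variable [IsAlgClosed k] [CharZero k] [Algebra.FiniteType k A]

/-- An ample bundle has a stable finite family of sections of one weight without common zero. -/
theorem exists_cone (hB : HMNum.AmpleCover B) :
    haveI := isSeparated_V B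
    haveI := quasiCompact_V B
    ∃ (N : ℕ) (κ : Type u) (_ : Fintype κ) (w : κ → Fn B.V) (m : κ → κ → A), 0 < N ∧
      (∀ i, GLinSh.HasWeight B.atlas.chart N (w i)) ∧ (∀ x : X.left, ∃ i, x ∈ GLinSh.nonvanishing B.π (w i)) ∧
        IsRepMat (liftA B j) w m := by
  classical
  haveI := isSeparated_V B
  haveI := quasiCompact_V B
  haveI := B.atlas.affine
  obtain ⟨hcomp, hcov⟩ := hB
  haveI := hcomp
  choose M f hM hf hmem U hU hUa using hcov
  obtain ⟨s, hs⟩ := (CompactSpace.isCompact_univ (X := X.left)).elim_finite_subcover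
    (fun p : X.left => ((U p : X.left.Opens) : Set X.left)) (fun p => (U p).2)
    (fun p _ => Set.mem_iUnion.2 ⟨p, by rw [hU p]; exact hmem p⟩)
  let N := ∏ p ∈ s, M p
  have hN : 0 < N := Finset.prod_pos fun p _ => hM p
  have hq : ∀ p ∈ s, M p * (N / M p) = N := fun p hp => Nat.mul_div_cancel' (Finset.dvd_prod_of_mem M hp)
  let F := s.image fun p => f p ^ (N / M p)
  have hF : (F : Set (Fn B.V)) ⊆ wtSub B N := fun z hz => by
    obtain ⟨p, hp, rfl⟩ := Finset.mem_image.1 hz
    show GLinSh.HasWeight B.atlas.chart N _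
    rw [← hq p hp, mul_comm (M p), Nat.mul_div_cancel _ (hM p)]
    exact hasWeight_pow B.atlas (hf p) _
  obtain ⟨κ, _, w, m, hw, hFw, hrep⟩ := exists_repMat (liftA B j) (wtSub B N) (wtSub_stable B j N) F hF
  refine ⟨N, κ, inferInstance, w, m, hN, hw, fun x => ?_, hrep⟩
  obtain ⟨p, hp, hx⟩ := Set.mem_iUnion₂.1 (hs (Set.mem_univ x))
  have hpos : 0 < N / M p := Nat.div_pos (Nat.le_of_dvd hN (Finset.dvd_prod_of_mem M hp)) (hM p)
  refine exists_mem_nonvanishing B (hFw (Finset.mem_image_of_mem _ hp)) ?_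
  rw [nonvanishing_pow B.atlas (hM p) (hf p) hpos, ← hU p]
  exact hx

variable {κ : Type u} [Fintype κ] {w : κ → Fn B.V} {m : κ → κ → A}

theorem coeff_powHom_zK (z : LaurentPolynomial k) (n : ℤ) :
    (powHom (k := k) (HMTorus.zK (k := k)) z).coeff n = z.coeff n := by
  induction z using LaurentPolynomial.induction_on' with
  | add p q hp hq => simp [map_add, hp, hq]
  | C_mul_T i c =>
    rw [map_mul, powHom_T, HMTorus.zK_zpow,
      show LaurentPolynomial.C c = algebraMap k (LaurentPolynomial k) c from rfl, AlgHom.commutes,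
      show algebraMap k (LaurentPolynomial k) c = LaurentPolynomial.C c from rfl,
      ← LaurentPolynomial.single_eq_C_mul_T]
    simp [LaurentSeries.algebraMap_apply, HahnSeries.coeff_single, Finsupp.single_apply, eq_comm, -LaurentPolynomial.single_eq_C_mul_T]

theorem coeff_orbFn (hw : haveI := isSeparated_V B; haveI := quasiCompact_V B; IsRepMat (liftA B j) w m)
    (v : 𝟙_ (Over (Spec (CommRingCat.of k))) ⟶ B.V) (lam : A →ₐc[k] LaurentPolynomial k) (i : κ) (n : ℤ) :
    haveI := isSeparated_V B; haveI := quasiCompact_V B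
    letI := hw.comod; haveI := hw.isCoactAlg
    (orbFn B (oneParam lam ≫ j) v (w i)).coeff n =
      (ComodLib.lamCoord k A lam (fun t => valv v (w t)) i).coeff n := by
  haveI := isSeparated_V B; haveI := quasiCompact_V B
  letI := hw.comod; haveI := hw.isCoactAlg
  let K := LaurentSeries k
  let grK : Fn (sp k K) →ₐ[k] K := (LineGroups.spEquiv (k := k) K).symm.toAlgHom
  let h : sp k K ⟶ sp k A := upt (k := k) (HMTorus.zK (k := k)) ≫ oneParam lam
  have evK : ∀ t, grK (ev (toUnit (sp k K) ≫ v) (w t)) = algebraMap k K (valv v (w t)) := fun t => by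
    have e : toUnit (sp k K) = spMap (Algebra.ofId k K) ≫ toUnit (sp k k) := (comp_toUnit _).symm
    rw [e, Category.assoc, ← ev_ev]
    exact spMap_gr (Algebra.ofId k K) (ev (toUnit (sp k k) ≫ v) (w t))
  have hfn : ∀ p, grK (fn h p) = powHom (k := k) (HMTorus.zK (k := k)) (lam (HopfAlgebra.antipode k p)) := fun p => by
    rw [show fn h = lamFn lam (upt (k := k) (HMTorus.zK (k := k))) from fn_comp_oneParam lam _]
    show (grK.comp (powHom _)) _ = _
    rw [comp_powHom]
    refine congrArg (fun u => powHom u _) (Units.ext ?_)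
    show grK (GmPts.unitOfPt (upt (k := k) (HMTorus.zK (k := k)))).val = _
    rw [unitOfPt_upt]
    exact gr_gl _
  have hv : vK B (oneParam lam ≫ j) v = lift h (toUnit _ ≫ v) ≫ (liftA B j).act := by
    rw [lift_liftA, vK, Category.assoc]
  have e : orbFn B (oneParam lam ≫ j) v (w i) =
      ∑ t, powHom (k := k) (HMTorus.zK (k := k)) (lam (HopfAlgebra.antipode k (m i t))) * algebraMap k K (valv v (w t)) := by
    show grK (ev (vK B (oneParam lam ≫ j) v) (w i)) = _
    rw [hv, hw.ev_lift_act, map_sum]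
    simp only [map_mul]
    exact Finset.sum_congr rfl fun t _ => congrArg₂ (· * ·) (hfn _) (evK t)
  have e2 : ComodLib.lamCoord k A lam (fun t => valv v (w t)) i =
      ∑ t, valv v (w t) • lam (HopfAlgebra.antipode k (m i t)) := by
    show lam (GLin.orbitHom k A _ (MvPolynomial.X i)) = _
    rw [ComodLib.orbitCoord_eq (m := fun i t => HopfAlgebra.antipode k (m i t)) (polyCo_X m), map_sum]
    simp only [map_smul]
  have e3 : orbFn B (oneParam lam ≫ j) v (w i) =
      powHom (k := k) (HMTorus.zK (k := k)) (ComodLib.lamCoord k A lam (fun t => valv v (w t)) i) := by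
    rw [e, e2, map_sum]
    refine Finset.sum_congr rfl fun t _ => ?_
    rw [Algebra.smul_def, map_mul, AlgHom.commutes, _root_.mul_comm]
  rw [e3, coeff_powHom_zK]

/-- The numerical function on the cone. -/
theorem isMu_vec (hw : haveI := isSeparated_V B; haveI := quasiCompact_V B; IsRepMat (liftA B j) w m) {N : ℕ}
    (hwt : ∀ i, GLinSh.HasWeight B.atlas.chart N (w i)) (hcov : ∀ x : X.left, ∃ i, x ∈ GLinSh.nonvanishing B.π (w i))
    {x : 𝟙_ (Over (Spec (CommRingCat.of k))) ⟶ X} {v : 𝟙_ (Over (Spec (CommRingCat.of k))) ⟶ B.V}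
    (hv : v ≫ B.π = x) {U₀ : X.left.Opens} {y₀ : Γ(B.V.left, B.π.left ⁻¹ᵁ U₀)} (hy₀ : y₀ ∈ B.atlas.chart U₀)
    (hU₀ : x.left ⁻¹ᵁ U₀ = ⊤) (h₀ : ⊤ ≤ v.left ⁻¹ᵁ (B.π.left ⁻¹ᵁ U₀)) (hv₀ : HMNum.evalFn B.π y₀ v h₀ = 1)
    (lam : A →ₐc[k] LaurentPolynomial k) {μ' : ℤ} (hμ : HMNum.IsMu B (oneParam lam ≫ j) x μ') :
    haveI := isSeparated_V B; haveI := quasiCompact_V B
    letI := hw.comod; haveI := hw.isCoactAlg
    GLin.IsMu k A lam (fun t => valv v (w t)) ((N : ℤ) * μ') := by
  haveI := isSeparated_V B; haveI := quasiCompact_V B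
  letI := hw.comod; haveI := hw.isCoactAlg
  obtain ⟨y, hlim, hwy⟩ := hμ
  have hord := fun i => orbFn_order_iff B (oneParam lam ≫ j) hlim hwy v hv hy₀ hU₀ h₀ (hv₀ ▸ isUnit_one) (hwt i)
  rw [ComodLib.isMu_iff]
  refine ⟨fun i n hn => ?_, ?_⟩
  · rw [← coeff_orbFn B j hw]
    exact (hord i).1 n (by rw [mul_neg]; exact hn)
  · obtain ⟨i, hi⟩ := hcov (y.left.base (IsLocalRing.closedPoint k))
    refine ⟨i, ?_⟩
    rw [← coeff_orbFn B j hw, ← mul_neg]
    exact (hord i).2.1 hi

end Group

end Groth.Agent.HMProj
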