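import Groth.Agent.HMProj.Cone
import Groth.Agent.HMCrit.Closed
import Groth.Agent.ComodLib.StableLocus
import Groth.Agent.GITQuot.Successive
import Mathlib.RingTheory.FiniteType

/-!
# Finite stabilisers and one parameter subgroups
-/

set_option autoImplicit false
set_option backward.isDefEq.respectTransparency false
set_option backward.isDefEq.respectTransparency.types false
set_option linter.style.haveILetI false

universe u

open CategoryTheory CategoryTheory.Limits MonoidalCategory CartesianMonoidalCategory MonObj AlgebraicGeometry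
open TensorProduct WithConv

noncomputable section

namespace Groth.Agent.HMProj

open GrpSchLib GrpSchLib.Kunneth GrpSchLib.AffineHopf GrpSchLib.LineVec HMTorus

variable {k : Type u} [Field k] {G X : Over (Spec (CommRingCat.of k))} [GrpObj G] (a : AlgGrp.Action G X)

/-- A one parameter subgroup fixing a point with finite stabiliser is trivial. -/
theorem eq_one_of_fixes [IsAlgClosed k] [CharZero k] {A : Type u} [CommRing A] [HopfAlgebra k A] (j : sp k A ⟶ G)
    [IsMonHom j] [IsIso j] (l : Red.Gm (Spec (CommRingCat.of k)) ⟶ G) [IsMonHom l]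
    {x : 𝟙_ (Over (Spec (CommRingCat.of k))) ⟶ X} (hfix : HMNum.IsFixedBy a l x)
    (hst : Finite {g : 𝟙_ (Over (Spec (CommRingCat.of k))) ⟶ G // lift g x ≫ a.act = x}) : l = 1 := by
  let ρ : kˣ →* (𝟙_ (Over (Spec (CommRingCat.of k))) ⟶ G) :=
    { toFun := fun u => (pt1 (k := k) ≫ upt (k := k) u) ≫ l
      map_one' := by rw [upt_one, MonObj.comp_one, MonObj.one_comp]
      map_mul' := fun u v => by rw [upt_mul, MonObj.comp_mul, MonObj.mul_comp] }
  have hρ : ∀ u, lift (ρ u) x ≫ a.act = x := fun u => by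
    have := hfix (𝟙_ _) (𝟙 _) (pt1 (k := k) ≫ upt (k := k) u)
    rwa [Category.id_comp] at this
  haveI : Finite ρ.range := Finite.of_injective
    (fun r : ρ.range => (⟨r.1, by obtain ⟨u, hu⟩ := r.2; rw [← hu]; exact hρ u⟩ :
      {g : 𝟙_ (Over (Spec (CommRingCat.of k))) ⟶ G // lift g x ≫ a.act = x}))
    fun r r' h => Subtype.ext (congrArg (fun g => g.1) h)
  have hone : ∀ u : kˣ, upt (k := k) u ≫ l = 1 := fun u => by
    obtain ⟨t, ht⟩ := IsAlgClosed.exists_pow_nat_eq (u : k) (n := Nat.card ρ.range) Nat.card_pos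
    have ht0 : t ≠ 0 := fun h0 => u.ne_zero (by rw [← ht, h0, zero_pow Nat.card_pos.ne'])
    have h1 : ρ u = 1 := by
      rw [show u = Units.mk0 t ht0 ^ Nat.card ρ.range from Units.ext (by simpa using ht.symm), map_pow]
      exact congrArg Subtype.val (pow_card_eq_one' (x := (⟨_, ⟨Units.mk0 t ht0, rfl⟩⟩ : ρ.range)))
    have h2 := congrArg (fun g => toUnit (sp k k) ≫ g) h1
    change toUnit (sp k k) ≫ (pt1 (k := k) ≫ upt (k := k) u) ≫ l = toUnit (sp k k) ≫ 1 at h2
    rwa [← Category.assoc, ← Category.assoc, toUnit_pt1, Category.id_comp, MonObj.comp_one] at h2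
  haveI : IsMonHom (inv j) := by
    haveI : IsMonHom (asIso j).hom := ‹IsMonHom j›
    exact inferInstanceAs (IsMonHom (asIso j).inv)
  refine gm_hom_ext ?_
  rw [MonObj.comp_one, ← cancel_mono (inv j), MonObj.one_comp]
  haveI : Algebra.FiniteType k (Lz k) := inferInstance
  refine fn_injective (AlgHom.ext fun p => ?_)
  let L := LineGroups.spEquiv (k := k) (Lz k)
  refine L.symm.injective (HMCrit.eq_of_forall_point_A (k := k) fun σ => ?_)
  let u : kˣ := Units.map σ.toRingHom.toMonoidHom zu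
  have hσ : ∀ z : Fn (sp k (Lz k)), σ (L.symm z) = gr (k := k) k (ev (spMap σ) z) := fun z => by
    rw [ev_apply, spMap_gr]
    rfl
  rw [hσ, hσ]
  refine congrArg _ ?_
  show fn (spMap σ ≫ (uZ ≫ l) ≫ inv j) p = fn (spMap σ ≫ 1) p
  rw [← Category.assoc, ← Category.assoc, spMap_upt, hone u, MonObj.one_comp, MonObj.comp_one]

/-- The morphisms of a point into a finite scheme over the field are finitely many. -/
theorem finite_hom_of_isFinite {Ω : Type u} [Field Ω] (T Z : Over (Spec (CommRingCat.of k)))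
    (e : T.left ≅ Spec (CommRingCat.of Ω)) [IsFinite Z.hom] : Finite (T ⟶ Z) := by
  haveI : IsAffine Z.left := isAffine_of_isAffineHom Z.hom
  have hfin : Module.Finite k (Fn Z) := by
    refine RingHom.finite_algebraMap.mp ?_
    exact RingHom.Finite.comp (g := Z.hom.appTop.hom) (f := (Scheme.ΓSpecIso (CommRingCat.of k)).inv.hom)
      (IsFinite.finite_app Z.hom ⊤ (isAffineOpen_top _))
      (RingHom.Finite.of_surjective _ (ConcreteCategory.bijective_of_isIso (Scheme.ΓSpecIso (CommRingCat.of k)).inv).2)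
  haveI := hfin
  let φ : Fn T ≃+* Ω :=
    ((asIso e.inv.appTop).commRingCatIsoToRingEquiv).trans (Scheme.ΓSpecIso (CommRingCat.of Ω)).commRingCatIsoToRingEquiv
  haveI : IsDomain (Fn T) := MulEquiv.isDomain Ω φ.toMulEquiv
  haveI : Finite (Fn Z →ₐ[k] Fn T) := Finite.algHom _ _ _
  exact Finite.of_injective (fun t => ev t) fun t t' h => LineGroups.ext_ev h

/-- Finiteness of the rational stabiliser gives that of the geometric ones. -/
theorem finite_stab_geom [IsAlgClosed k] [IsAffineHom G.hom] [LocallyOfFiniteType G.hom]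
    {x : 𝟙_ (Over (Spec (CommRingCat.of k))) ⟶ X}
    (hst : Finite {g : 𝟙_ (Over (Spec (CommRingCat.of k))) ⟶ G // lift g x ≫ a.act = x})
    {Ω : Type u} [Field Ω] (T : Over (Spec (CommRingCat.of k))) (e : T.left ≅ Spec (CommRingCat.of Ω)) :
    Finite {g : T ⟶ G // lift g (toUnit T ≫ x) ≫ a.act = toUnit T ≫ x} := by
  have h : IsFinite (GLinSh.stabTo a x) :=
    (GITQuot.Successive.isFinite_stabTo_iff a (T := 𝟙_ (Over (Spec (CommRingCat.of k)))) (Iso.refl _) x).2 hst
  let Z : Over (Spec (CommRingCat.of k)) := Over.mk (GLinSh.stabTo a x ≫ (𝟙_ (Over (Spec (CommRingCat.of k)))).hom)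
  haveI : IsFinite Z.hom := by
    show IsFinite (GLinSh.stabTo a x ≫ 𝟙 _)
    rwa [Category.comp_id]
  haveI := finite_hom_of_isFinite T Z e
  let F : {g : T ⟶ G // lift g (toUnit T ≫ x) ≫ a.act = toUnit T ≫ x} → (T ⟶ Z) := fun g =>
    Over.homMk (pullback.lift (lift g.1 (toUnit T)).left (toUnit T).left (by
      rw [← Over.comp_left, ← Over.comp_left]
      congr 1
      apply CartesianMonoidalCategory.hom_ext
      · simp only [GIT.psi, Category.assoc, lift_fst, lift_whiskerLeft_assoc]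
        exact g.2
      · simp [GIT.psi])) (by
      show pullback.lift _ _ _ ≫ pullback.snd _ _ ≫ _ = _
      rw [← Category.assoc, pullback.lift_snd]
      exact Over.w (toUnit T))
  refine Finite.of_injective F fun g g' h => Subtype.ext ?_
  have h1 := congrArg (fun s : T ⟶ Z => s.left ≫ pullback.fst _ _) h
  simp only [F, Over.homMk_left, pullback.lift_fst] at h1
  simpa using congrArg (· ≫ fst G _) (Over.OverMorphism.ext h1 : lift g.1 (toUnit T) = lift g'.1 (toUnit T))

/-- A geometric point over a rational point is its pullback. -/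
theorem hom_eq_of_range {Ω : Type u} [Field Ω]
    {T : Over (Spec (CommRingCat.of k))} (e : T.left ≅ Spec (CommRingCat.of Ω)) (p : T ⟶ X)
    (x : 𝟙_ (Over (Spec (CommRingCat.of k))) ⟶ X) (hp : Set.range p.left.base = {x.left.base (IsLocalRing.closedPoint k)}) :
    p = toUnit T ≫ x := by
  obtain ⟨W, hW, hxW, -⟩ := exists_isAffineOpen_mem_and_subset (X := X.left) (U := ⊤)
    (x := x.left.base (IsLocalRing.closedPoint k)) trivial
  haveI : IsAffine (opO W).left := hW
  have hrp : Set.range p.left.base ⊆ Set.range W.ι.base := by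
    rw [Scheme.Opens.range_ι, hp]; exact Set.singleton_subset_iff.2 hxW
  have hrx : Set.range x.left.base ⊆ Set.range W.ι.base := by
    rintro _ ⟨q, rfl⟩
    rw [Scheme.Opens.range_ι, Subsingleton.elim (α := PrimeSpectrum k) q (IsLocalRing.closedPoint k)]
    exact hxW
  let p' : T ⟶ opO W := Over.homMk (IsOpenImmersion.lift W.ι p.left hrp) (by
    show IsOpenImmersion.lift W.ι p.left hrp ≫ W.ι ≫ X.hom = _
    rw [IsOpenImmersion.lift_fac_assoc, Over.w p])
  let x' : 𝟙_ (Over (Spec (CommRingCat.of k))) ⟶ opO W := Over.homMk (IsOpenImmersion.lift W.ι x.left hrx) (by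
    show IsOpenImmersion.lift W.ι x.left hrx ≫ W.ι ≫ X.hom = _
    rw [IsOpenImmersion.lift_fac_assoc, Over.w x])
  have hp' : p' ≫ inclO W = p := Over.OverMorphism.ext (IsOpenImmersion.lift_fac W.ι p.left hrp)
  have hx' : x' ≫ inclO W = x := Over.OverMorphism.ext (IsOpenImmersion.lift_fac W.ι x.left hrx)
  rw [← hp', ← hx', ← Category.assoc]
  refine congrArg (· ≫ inclO W) (LineGroups.ext_ev (AlgHom.ext fun c => ?_))
  let φ : Fn T ≃+* Ω :=
    ((asIso e.inv.appTop).commRingCatIsoToRingEquiv).trans (Scheme.ΓSpecIso (CommRingCat.of Ω)).commRingCatIsoToRingEquiv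
  have e1 : ev (toUnit T ≫ x') c = algebraMap k (Fn T) (valv x' c) := by
    rw [← ev_ev, ev_apply x', appTop_eq_of_valv, AlgHom.commutes]
  rw [e1]
  by_contra hne
  let c' : Fn (opO W) := c - algebraMap k _ (valv x' c)
  have hne' : ev p' c' ≠ 0 := by
    rw [map_sub, AlgHom.commutes]; exact sub_ne_zero.2 hne
  have hu : IsUnit (p'.left.appTop c') := by
    have h1 : φ (ev p' c') ≠ 0 := by simpa using hne'
    simpa [ev_apply] using (isUnit_iff_ne_zero.2 h1).map φ.symm
  have hx0 : x'.left.appTop c' = 0 := by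
    rw [appTop_eq_of_valv, map_sub, AlgHom.commutes, Algebra.algebraMap_self, RingHom.id_apply, sub_self, map_zero]
  let t : T.left := e.inv.base (IsLocalRing.closedPoint Ω)
  have hmem : t ∈ p'.left ⁻¹ᵁ (opO W).left.basicOpen c' := by
    rw [Scheme.preimage_basicOpen_top, Scheme.basicOpen_of_isUnit _ hu]; trivial
  have hpt : p'.left.base t = x'.left.base (IsLocalRing.closedPoint k) := W.ι.isOpenEmbedding.injective (by
    change (p'.left ≫ W.ι).base t = (x'.left ≫ W.ι).base (IsLocalRing.closedPoint k)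
    rw [show p'.left ≫ W.ι = p.left from IsOpenImmersion.lift_fac W.ι p.left hrp,
      show x'.left ≫ W.ι = x.left from IsOpenImmersion.lift_fac W.ι x.left hrx]
    exact hp.le ⟨t, rfl⟩)
  change p'.left.base t ∈ (opO W).left.basicOpen c' at hmem
  rw [hpt] at hmem
  change IsLocalRing.closedPoint k ∈ x'.left ⁻¹ᵁ (opO W).left.basicOpen c' at hmem
  rw [Scheme.preimage_basicOpen_top, hx0, Scheme.basicOpen_zero] at hmem
  exact hmem

/-- A limit in a closed orbit is a translate. -/
theorem exists_translate_of_limit [IsAlgClosed k] [LocallyOfFiniteType G.hom] [IsProper X.hom]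
    (l : Red.Gm (Spec (CommRingCat.of k)) ⟶ G) [IsMonHom l] {x y : 𝟙_ (Over (Spec (CommRingCat.of k))) ⟶ X}
    (hlim : HMNum.IsLimitPt a l x y) {U : X.left.Opens} (hyU : y.left.base (IsLocalRing.closedPoint k) ∈ U)
    (hcl : IsClosed ((fun p : (fst X (𝟙_ _)).left ⁻¹ᵁ U => (p : (X ⊗ 𝟙_ _).left)) ⁻¹'
      Set.range (GIT.psi a x).left.base)) :
    ∃ g : 𝟙_ (Over (Spec (CommRingCat.of k))) ⟶ G, lift g x ≫ a.act = y := by
  obtain ⟨ψ, hψ, hlim'⟩ := exists_isLimitPt a l x
  have hy : y = xPt (T := 𝟙_ _) 0 ≫ ψ := HMTransLib.isLimitPt_unique hlim hlim'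
  let loc : sp k (Xo k) ⟶ sp k (Polynomial k) := spMap (IsScalarTower.toAlgHom k (Polynomial k) (Xo k))
  let ψ' : sp k (Polynomial k) ⟶ X ⊗ 𝟙_ _ := CartesianMonoidalCategory.lift ψ (toUnit _)
  let R : Set (X ⊗ 𝟙_ (Over (Spec (CommRingCat.of k)))).left := Set.range (GIT.psi a x).left.base
  have hloc : ∀ s, ψ'.left.base (loc.left.base s) ∈ R := fun s => by
    have e : loc ≫ ψ' = CartesianMonoidalCategory.lift (upt (k := k) uX ≫ l) (toUnit _) ≫ GIT.psi a x := by
      apply CartesianMonoidalCategory.hom_ext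
      · simp only [ψ', Category.assoc, lift_fst, GIT.psi]
        rw [hψ, comp_orb, ← Category.assoc, lift_whiskerLeft]
      · exact toUnit_unique _ _
    refine ⟨(CartesianMonoidalCategory.lift (upt (k := k) uX ≫ l) (toUnit _)).left.base s, ?_⟩
    rw [← Scheme.Hom.comp_apply, ← Scheme.Hom.comp_apply, ← Over.comp_left, ← Over.comp_left, e]
  let o : (sp k (Polynomial k)).left := (xPt (k := k) (T := 𝟙_ (Over (Spec (CommRingCat.of k)))) 0).left.base (IsLocalRing.closedPoint k)
  have ho : (fst X (𝟙_ _)).left.base (ψ'.left.base o) = y.left.base (IsLocalRing.closedPoint k) := by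
    rw [hy, ← Scheme.Hom.comp_apply, ← Over.comp_left, lift_fst]
    rfl
  have hR : ψ'.left.base o ∈ R := by
    by_contra hn
    have hW : IsOpen ((fun p : (fst X (𝟙_ _)).left ⁻¹ᵁ U => (p : (X ⊗ 𝟙_ _).left)) '' (Subtype.val ⁻¹' R)ᶜ) :=
      ((fst X (𝟙_ _)).left ⁻¹ᵁ U).isOpen.isOpenMap_subtype_val _ hcl.isOpen_compl
    have hirr : IsPreirreducible (Set.univ : Set (PrimeSpectrum (Polynomial k))) :=
      PreirreducibleSpace.isPreirreducible_univ
    obtain ⟨q, -, hq, hq'⟩ := hirr _ (PrimeSpectrum.basicOpen (Polynomial.X : Polynomial k)).1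
      (hW.preimage ψ'.left.continuous) (PrimeSpectrum.basicOpen (Polynomial.X : Polynomial k)).2
      ⟨o, trivial, ⟨⟨_, show ψ'.left.base o ∈ (fst X (𝟙_ _)).left ⁻¹ᵁ U from by
        show (fst X (𝟙_ _)).left.base (ψ'.left.base o) ∈ U
        rw [ho]; exact hyU⟩, hn, rfl⟩⟩
      ⟨⟨⊥, Ideal.isPrime_bot⟩, trivial, show Polynomial.X ∉ (⊥ : Ideal (Polynomial k)) by simp⟩
    obtain ⟨⟨p, hp⟩, hpR, hpq⟩ := hq
    obtain ⟨s, rfl⟩ : q ∈ Set.range loc.left.base := by
      show q ∈ Set.range (PrimeSpectrum.comap (algebraMap (Polynomial k) (Xo k)))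
      rw [PrimeSpectrum.localization_away_comap_range (Xo k) (Polynomial.X : Polynomial k)]
      exact hq'
    exact hpR (show p ∈ R from (show p = _ from hpq) ▸ hloc s)
  haveI : LocallyOfFiniteType (GIT.psi a x).left := by
    haveI : LocallyOfFiniteType ((GIT.psi a x).left ≫ (X ⊗ 𝟙_ (Over (Spec (CommRingCat.of k)))).hom) := by
      rw [Over.w]
      exact inferInstanceAs (LocallyOfFiniteType (pullback.fst G.hom (𝟙 _) ≫ G.hom))
    exact locallyOfFiniteType_of_comp _ (X ⊗ 𝟙_ (Over (Spec (CommRingCat.of k)))).hom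
  obtain ⟨q, hq⟩ := GITQuot.Successive.exists_point (T := 𝟙_ (Over (Spec (CommRingCat.of k)))) (Iso.refl _)
    (GIT.psi a x) (lift y (𝟙 _)) fun t => by
      have e : lift y (𝟙 _) = xPt (k := k) (T := 𝟙_ (Over (Spec (CommRingCat.of k)))) 0 ≫ ψ' := by
        apply CartesianMonoidalCategory.hom_ext
        · simp [ψ', ← hy]
        · exact toUnit_unique _ _
      rw [e, Subsingleton.elim (α := PrimeSpectrum k) t (IsLocalRing.closedPoint k)]
      exact hR
  refine ⟨q ≫ fst G _, ?_⟩
  have h1 := congrArg (fun z => z ≫ fst X _) hq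
  simp only [GIT.psi, Category.assoc, lift_fst] at h1
  rw [← h1]
  conv_rhs => rw [← Category.assoc]
  congr 1
  apply CartesianMonoidalCategory.hom_ext
  · simp
  · rw [lift_snd, Category.assoc, whiskerLeft_snd, ← Category.assoc, toUnit_unique (q ≫ snd G _) (𝟙 _), Category.id_comp]

end Groth.Agent.HMProj
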