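import Groth.Agent.HMProj.Orbits
import Groth.Agent.HMProj.StabPts
import Groth.Agent.GITAff.Orbit

/-!
# The action on the nonvanishing locus of an invariant section
-/

set_option autoImplicit false
set_option backward.isDefEq.respectTransparency false
set_option backward.isDefEq.respectTransparency.types false
set_option linter.style.haveILetI false

universe u

open CategoryTheory CategoryTheory.Limits MonoidalCategory CartesianMonoidalCategory MonObj AlgebraicGeometry
open TensorProduct WithConv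

noncomputable section

namespace Groth.Agent.HMProj

open GrpSchLib GrpSchLib.Kunneth GrpSchLib.AffineHopf GrpSchLib.LineVec HMTorus

variable {k : Type u} [Field k] {G X : Over (Spec (CommRingCat.of k))} [GrpObj G] {a : AlgGrp.Action G X}
  (B : GLinSh.LinBun G a)

theorem act_mem_of_snd_mem {f : Fn B.V} (hf : GLinSh.IsInvFn B.lift f) (q : (G ⊗ X).left)
    (hq : (snd G X).left.base q ∈ GLinSh.nonvanishing B.π f) :
    a.act.left.base q ∈ GLinSh.nonvanishing B.π f := by
  obtain ⟨v, hv, hvq⟩ := hq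
  obtain ⟨r, hr, hr'⟩ := Scheme.exists_preimage_of_isPullback
    (GITQuot.isPullback_left (GITQuot.isPullback_tensorLeft (G := G) B.π)) q v hvq.symm
  refine ⟨B.lift.act.left.base r, ?_, ?_⟩
  · show r ∈ B.lift.act.left ⁻¹ᵁ B.V.left.basicOpen f
    rw [Scheme.preimage_basicOpen_top, show B.lift.act.left.appTop f = (snd G B.V).left.appTop f from hf,
      ← Scheme.preimage_basicOpen_top]
    show (snd G B.V).left.base r ∈ B.V.left.basicOpen f
    rw [hr']
    exact hv
  · rw [← Scheme.Hom.comp_apply, ← Over.comp_left, B.lift_π, Over.comp_left, Scheme.Hom.comp_apply, hr]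

theorem mem_iff_of_invariant {f : Fn B.V} (hf : GLinSh.IsInvFn B.lift f) (q : (G ⊗ X).left) :
    a.act.left.base q ∈ GLinSh.nonvanishing B.π f ↔ (snd G X).left.base q ∈ GLinSh.nonvanishing B.π f := by
  refine ⟨fun h => ?_, act_mem_of_snd_mem B hf q⟩
  let σ : G ⊗ X ⟶ G ⊗ X := lift (fst G X)⁻¹ a.act
  have e1 : σ ≫ snd G X = a.act := lift_snd _ _
  have e2 : σ ≫ a.act = snd G X := by
    have h0 : a.act = lift (fst G X) (snd G X) ≫ a.act := by rw [lift_fst_snd, Category.id_comp]
    show lift (fst G X)⁻¹ a.act ≫ a.act = _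
    conv_lhs => arg 1; arg 2; rw [h0]
    rw [GrpSchLib.act_mul, inv_mul_cancel, GrpSchLib.act_one]
  have h' := act_mem_of_snd_mem B hf (σ.left.base q) (by rwa [← Scheme.Hom.comp_apply, ← Over.comp_left, e1])
  rwa [← Scheme.Hom.comp_apply, ← Over.comp_left, e2] at h'

variable {A : Type u} [CommRing A] [HopfAlgebra k A] (j : sp k A ⟶ G) [IsMonHom j]

/-- The action on an invariant open. -/
theorem exists_restrict {f : Fn B.V} (hf : GLinSh.IsInvFn B.lift f) {U : X.left.Opens}
    (hU : (U : Set X.left) = GLinSh.nonvanishing B.π f) :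
    ∃ aU : AlgGrp.Action (sp k A) (opO U), aU.act ≫ inclO U = (j ⊗ₘ inclO U) ≫ a.act := by
  let m : sp k A ⊗ opO U ⟶ X := (j ⊗ₘ inclO U) ≫ a.act
  have hr : Set.range m.left.base ⊆ Set.range U.ι.base := by
    rintro _ ⟨q, rfl⟩
    rw [Scheme.Opens.range_ι, hU]
    show a.act.left.base ((j ⊗ₘ inclO U).left.base q) ∈ _
    rw [mem_iff_of_invariant B hf, ← Scheme.Hom.comp_apply, ← Over.comp_left, tensorHom_snd, Over.comp_left,
      Scheme.Hom.comp_apply, ← hU]
    exact ((snd (sp k A) (opO U)).left.base q).2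
  let act' : sp k A ⊗ opO U ⟶ opO U := Over.homMk (IsOpenImmersion.lift U.ι m.left hr) (by
    show IsOpenImmersion.lift U.ι m.left hr ≫ U.ι ≫ X.hom = _
    rw [IsOpenImmersion.lift_fac_assoc, Over.w m])
  have hact : act' ≫ inclO U = m := Over.OverMorphism.ext (IsOpenImmersion.lift_fac U.ι m.left hr)
  haveI : Mono (inclO (Y := X) U) := by
    haveI : Mono ((Over.forget _).map (inclO (Y := X) U)) := inferInstanceAs (Mono U.ι)
    exact (Over.forget _).mono_of_mono_map ‹_›
  have hl : ∀ {T : Over (Spec (CommRingCat.of k))} (g : T ⟶ sp k A) (y : T ⟶ opO U),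
      (lift g y ≫ act') ≫ inclO U = lift (g ≫ j) (y ≫ inclO U) ≫ a.act := fun g y => by
    rw [Category.assoc, hact]
    simp only [m]
    rw [lift_map_assoc]
  have h1 : (η[sp k A] ▷ opO U) ≫ act' = (λ_ (opO U)).hom := by
    have e : (η[sp k A] ▷ opO U) = lift (1 : 𝟙_ _ ⊗ opO U ⟶ sp k A) (snd _ _) := by
      apply CartesianMonoidalCategory.hom_ext
      · simp [Hom.one_def]
        congr 1
      · simp
    rw [← cancel_mono (inclO U), e, hl, MonObj.one_comp, GrpSchLib.act_one]
    rw [CartesianMonoidalCategory.leftUnitor_hom]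
  refine ⟨⟨act', h1, ?_⟩, hact⟩
  let T₀ := (sp k A ⊗ sp k A) ⊗ opO U
  let g : T₀ ⟶ sp k A := fst _ _ ≫ fst _ _
  let h : T₀ ⟶ sp k A := fst _ _ ≫ snd _ _
  let v : T₀ ⟶ opO U := snd _ _
  have e : lift (lift g h) v = 𝟙 T₀ := by
    apply CartesianMonoidalCategory.hom_ext
    · apply CartesianMonoidalCategory.hom_ext <;> simp [g, h, T₀]
    · simp [v, T₀]
  rw [← Category.id_comp ((μ[sp k A] ▷ opO U) ≫ _), ← Category.id_comp ((α_ _ _ _).hom ≫ _), ← e,
    lift_whiskerRight_assoc, lift_lift_associator_hom_assoc, lift_whiskerLeft_assoc, ← cancel_mono (inclO U), hl, hl, hl,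
    GrpSchLib.act_mul, ← MonObj.mul_comp]
  rw [← Hom.mul_def]

omit [IsMonHom j] in
theorem psi_restrict [IsMonHom j] {U : X.left.Opens} {aU : AlgGrp.Action (sp k A) (opO U)}
    (h : aU.act ≫ inclO U = (j ⊗ₘ inclO U) ≫ a.act) {T : Over (Spec (CommRingCat.of k))} (f : T ⟶ opO U) :
    GIT.psi aU f ≫ (inclO U ▷ T) = (j ▷ T) ≫ GIT.psi a (f ≫ inclO U) := by
  apply CartesianMonoidalCategory.hom_ext
  · have e : (sp k A ◁ f) ≫ (j ⊗ₘ inclO U) = (j ▷ T) ≫ (G ◁ (f ≫ inclO U)) := by
      apply CartesianMonoidalCategory.hom_ext <;> simp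
    simp only [GIT.psi, Category.assoc, whiskerRight_fst, lift_fst, lift_fst_assoc]
    rw [h, reassoc_of% e]
  · simp [GIT.psi]

variable [IsAlgClosed k] [CharZero k] [Algebra.FiniteType k A] [IsIso j] [LocallyOfFiniteType (sp k A).hom]
  [LocallyOfFiniteType X.hom] [QuasiCompact X.hom]

include j in
/-- Orbits in an invariant affine open with finite stabilisers at rational points are closed in it. -/
theorem closedOrbitsOn {f : Fn B.V} (hf : GLinSh.IsInvFn B.lift f) {U : X.left.Opens}
    (hU : (U : Set X.left) = GLinSh.nonvanishing B.π f) (hUa : IsAffineOpen U)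
    {α : A →ₗ[k] k} (hα : ComodLib.IsIntegral k α) (h1 : α 1 = 1)
    (hfin : ∀ y : 𝟙_ (Over (Spec (CommRingCat.of k))) ⟶ X, y.left.base (IsLocalRing.closedPoint k) ∈ U →
      Finite {g : 𝟙_ (Over (Spec (CommRingCat.of k))) ⟶ G // lift g y ≫ a.act = y}) :
    GLinSh.ClosedOrbitsOn a U := by
  obtain ⟨aU, haU⟩ := exists_restrict B j hf hU
  haveI : IsAffine (opO U).left := hUa
  haveI : LocallyOfFiniteType (opO U).hom := inferInstanceAs (LocallyOfFiniteType (U.ι ≫ X.hom))
  haveI : QuasiCompact (opO U).hom := inferInstance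
  haveI : IsOpenImmersion (inclO (Y := X) U).left := inferInstanceAs (IsOpenImmersion U.ι)
  intro Ω _ _ T e p hp
  have hr : Set.range p.left.base ⊆ Set.range U.ι.base := by rw [Scheme.Opens.range_ι]; exact hp
  let p' : T ⟶ opO U := Over.homMk (IsOpenImmersion.lift U.ι p.left hr) (by
    show IsOpenImmersion.lift U.ι p.left hr ≫ U.ι ≫ X.hom = _
    rw [IsOpenImmersion.lift_fac_assoc, Over.w p])
  have hp' : p' ≫ inclO U = p := Over.OverMorphism.ext (IsOpenImmersion.lift_fac U.ι p.left hr)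
  have hc := isClosedAction_of_finite aU hα h1 (fun y => by
    have hy : (y ≫ inclO U).left.base (IsLocalRing.closedPoint k) ∈ U := (y.left.base (IsLocalRing.closedPoint k)).2
    haveI := hfin _ hy
    refine Finite.of_injective (β := {g : 𝟙_ _ ⟶ G // lift g (y ≫ inclO U) ≫ a.act = y ≫ inclO U})
      (fun g => ⟨g.1 ≫ j, ?_⟩) fun g g' h => Subtype.ext ((cancel_mono j).1 (congrArg Subtype.val h))
    conv_rhs => rw [← g.2, Category.assoc, haU, lift_map_assoc]) Ω T e p'
  have hsq : IsPullback (inclO U ▷ T).left (fst (opO U) T).left (fst X T).left U.ι :=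
    (GITQuot.isPullback_left (GITAff.isPullback_fst_whiskerRight (inclO (Y := X) U) T)).flip
  haveI : IsOpenImmersion (inclO U ▷ T).left := MorphismProperty.of_isPullback (P := @IsOpenImmersion) hsq.flip inferInstance
  have hrange : Set.range (inclO U ▷ T).left.base = ((fst X T).left ⁻¹ᵁ U : Set (X ⊗ T).left) := by
    ext z
    constructor
    · rintro ⟨z', rfl⟩
      show (fst X T).left.base ((inclO U ▷ T).left.base z') ∈ U
      rw [← Scheme.Hom.comp_apply, hsq.w, Scheme.Hom.comp_apply]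
      exact ((fst (opO U) T).left.base z').2
    · intro hz
      obtain ⟨z', hz', -⟩ := Scheme.exists_preimage_of_isPullback hsq z (⟨_, hz⟩ : U.toScheme) rfl
      exact ⟨z', hz'⟩
  haveI : IsIso (j ▷ T) := inferInstance
  haveI : IsIso (j ▷ T).left := inferInstanceAs (IsIso ((Over.forget _).map (j ▷ T)))
  have hR : Set.range (GIT.psi a p).left.base =
      (inclO U ▷ T).left.base '' Set.range (GIT.psi aU p').left.base := by
    rw [← Set.range_comp, ← TopCat.coe_comp, ← Scheme.Hom.comp_base, ← Over.comp_left, psi_restrict j haU, hp',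
      Over.comp_left, Scheme.Hom.comp_base, TopCat.coe_comp, Set.range_comp,
      (j ▷ T).left.surjective.range_eq, Set.image_univ]
  have hemb := (inclO U ▷ T).left.isOpenEmbedding.toIsEmbedding
  obtain ⟨C, hC, hCeq⟩ := hemb.isInducing.isClosed_iff.1 hc
  rw [isClosed_induced_iff]
  refine ⟨C, hC, ?_⟩
  ext ⟨z, hz⟩
  obtain ⟨z', rfl⟩ := hrange.ge hz
  rw [Set.mem_preimage, Set.mem_preimage, hR, hemb.injective.mem_set_image, ← hCeq]
  rfl

end Groth.Agent.HMProj
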