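import Groth.Agent.HMProj.Cone
import Groth.Agent.HMProj.Affine
import Groth.Agent.GITAff.Beta
import Groth.Agent.S12542

/-!
# The numerical criterion of semistability on a proper scheme
-/

set_option autoImplicit false
set_option backward.isDefEq.respectTransparency false
set_option backward.isDefEq.respectTransparency.types false
set_option linter.style.haveILetI false

universe u

open CategoryTheory MonoidalCategory CartesianMonoidalCategory MonObj AlgebraicGeometry TensorProduct WithConv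

noncomputable section

namespace Groth.Agent.HMProj

open GrpSchLib GrpSchLib.Kunneth GrpSchLib.AffineHopf GrpSchLib.LineVec HMTorus

variable {k : Type u} [Field k] [IsAlgClosed k] [CharZero k] {G : Over (Spec (CommRingCat.of k))} [GrpObj G]

omit [IsAlgClosed k] [CharZero k] in
theorem closedPoint_eq (p : (𝟙_ (Over (Spec (CommRingCat.of k)))).left) : p = IsLocalRing.closedPoint k :=
  Subsingleton.elim (α := PrimeSpectrum k) _ _

/-- A reductive group as the spectrum of a linearly reductive Hopf algebra of finite type. -/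
theorem exists_coord (hG : Red.IsReductive G) :
    ∃ (A : Type u) (_ : CommRing A) (_ : HopfAlgebra k A) (_ : Algebra.FiniteType k A) (j : sp k A ⟶ G)
      (_ : IsMonHom j) (_ : IsIso j), HopfRep.IsLinearlyReductive k A := by
  haveI : IsAffine G.left := by
    haveI := hG.1
    exact isAffine_of_isAffineHom G.hom
  obtain ⟨A, _, _, ⟨e⟩⟩ := exists_hopf G
  haveI := hG.2.1
  let j : sp k A ≅ G := (Grp.forget _).mapIso e
  haveI : IsIso j.hom.left := ((Over.forget _).mapIso j).isIso_hom
  have hlft : LocallyOfFiniteType (sp k A).hom := by rw [← Over.w j.hom]; infer_instance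
  haveI : Algebra.FiniteType k A :=
    RingHom.finiteType_algebraMap.mp ((HasRingHomProperty.Spec_iff (P := @LocallyOfFiniteType)).mp hlft)
  haveI : IsMonHom j.hom := inferInstanceAs (IsMonHom e.hom.hom.hom)
  exact ⟨A, inferInstance, inferInstance, inferInstance, j.hom, inferInstance, inferInstance,
    RedLR.isLinearlyReductive_of_isReductive A (GITAff.isReductive_congr e.symm hG)⟩

variable {X : Over (Spec (CommRingCat.of k))} [IsProper X.hom] {a : AlgGrp.Action G X} (B : GLinSh.LinBun G a)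

omit [CharZero k] in
/-- An invariant section bounds the numerical function. -/
theorem nonneg_of_inv {n : ℕ} (hn : 1 ≤ n) {f : Fn B.V} (hf : B.IsInvSection n f)
    (l : Red.Gm (Spec (CommRingCat.of k)) ⟶ G) [IsMonHom l] {x : 𝟙_ (Over (Spec (CommRingCat.of k))) ⟶ X} {m : ℤ}
    (hm : HMNum.IsMu B l x m) (hx : x.left.base (IsLocalRing.closedPoint k) ∈ GLinSh.nonvanishing B.π f) :
    0 ≤ m ∧ (m = 0 → ∀ y, HMNum.IsLimitPt a l x y →
      y.left.base (IsLocalRing.closedPoint k) ∈ GLinSh.nonvanishing B.π f) := by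
  haveI := B.atlas.affine
  obtain ⟨U₀, hxU₀, y₀, hy₀⟩ := B.atlas.cover (x.left.base (IsLocalRing.closedPoint k))
  have hU₀ := HMTransLib.top_of_mem x hxU₀
  obtain ⟨v, hv, h₀, hv₀⟩ := exists_unit_pt (B.atlas.coord U₀ y₀ hy₀) x hU₀
  obtain ⟨y, hlim, hwy⟩ := hm
  have hc : valv v f ≠ 0 := valv_ne_of_mem B hv hy₀ hU₀ h₀ hv₀ hf.1 hx
  have hord := orbFn_order_iff B l hlim hwy v hv hy₀ hU₀ h₀ (hv₀ ▸ isUnit_one) hf.1
  have hconst : orbFn B l v f = algebraMap k (LaurentSeries k) (valv v f) := by
    rw [orbFn, vK, Over.comp_left, GmPts.appTop_comp_apply, show B.lift.act.left.appTop f = (snd G B.V).left.appTop f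
      from hf.2, ← GmPts.appTop_comp_apply, ← Over.comp_left, lift_snd, Over.comp_left, GmPts.appTop_comp_apply,
      appTop_eq_of_valv]
    have h1 := (ev (toUnit (sp k (LaurentSeries k)))).commutes (valv v f)
    rw [ev_apply] at h1
    rw [h1]
    exact ((LineGroups.spEquiv (k := k) (LaurentSeries k)).symm.commutes _)
  have h0 : (orbFn B l v f).coeff 0 ≠ 0 := by
    rw [hconst]; simpa [LaurentSeries.algebraMap_apply] using hc
  refine ⟨?_, fun hm0 y' hy' => ?_⟩
  · by_contra hneg
    refine h0 (hord.1 0 ?_)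
    exact mul_pos (by exact_mod_cast hn) (by omega)
  · rw [HMTransLib.isLimitPt_unique hy' hlim]
    refine hord.2.2 ?_
    subst hm0
    simpa using h0

/-- The numerical criterion of semistability. -/
theorem semistable_iff (hG : Red.IsReductive G) (hB : HMNum.AmpleCover B)
    (x : 𝟙_ (Over (Spec (CommRingCat.of k))) ⟶ X) (p : (𝟙_ (Over (Spec (CommRingCat.of k)))).left) :
    B.IsSemistablePt (x.left.base p) ↔
      ∀ (l : Red.Gm (Spec (CommRingCat.of k)) ⟶ G) [IsMonHom l] (m : ℤ), HMNum.IsMu B l x m → 0 ≤ m := by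
  rw [closedPoint_eq p]
  constructor
  · rintro ⟨n, f, hn, hf, hx, -⟩ l _ m hm
    exact (nonneg_of_inv B hn hf l hm hx).1
  intro H
  haveI := B.atlas.affine
  haveI := isSeparated_V B
  haveI := quasiCompact_V B
  haveI := hB.1
  obtain ⟨A, _, _, _, j, _, _, hLR⟩ := exists_coord hG
  obtain ⟨N, κ, _, w, m, hN, hwt, hcov, hrep⟩ := exists_cone B j hB
  obtain ⟨U₀, hxU₀, y₀, hy₀⟩ := B.atlas.cover (x.left.base (IsLocalRing.closedPoint k))
  have hU₀ := HMTransLib.top_of_mem x hxU₀
  obtain ⟨v, hv, h₀, hv₀⟩ := exists_unit_pt (B.atlas.coord U₀ y₀ hy₀) x hU₀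
  letI := hrep.comod
  haveI := hrep.isCoactAlg
  let vec : κ → k := fun t => valv v (w t)
  have hne : vec ≠ 0 := by
    obtain ⟨i, hi⟩ := hcov (x.left.base (IsLocalRing.closedPoint k))
    exact Function.ne_iff.2 ⟨i, valv_ne_of_mem B hv hy₀ hU₀ h₀ hv₀ (hwt i) hi⟩
  have hss : GLin.IsSemistableVec k A vec := by
    refine (Groth.Agent.S12542.result k A hLR κ hrep.isLinear vec hne).2 fun lam M hM => ?_
    obtain ⟨μ', hμ'⟩ := HMTorus.exists_isMu B (oneParam lam ≫ j) x
    rw [(ComodLib.existsUnique_isMu lam hne).unique hM (isMu_vec B j hrep hwt hcov hv hy₀ hU₀ h₀ hv₀ lam hμ')]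
    exact mul_nonneg (Int.natCast_nonneg N) (H _ _ hμ')
  have hss' : ¬ GLin.IsNullform k A vec := hss
  simp only [GLin.IsNullform, not_forall] at hss'
  obtain ⟨F, hF, d, hd, hFd, hFv⟩ := hss'
  let f := MvPolynomial.aeval w F
  have hfw : GLinSh.HasWeight B.atlas.chart (d * N) f := hasWeight_aeval B hwt hFd
  have hfi : GLinSh.IsInvFn B.lift f := (isInvFn_liftA_iff B j f).1 (hrep.isInvFn_aeval hF)
  have hfv : valv v f ≠ 0 := by
    have e : (valv v).comp (MvPolynomial.aeval w) = MvPolynomial.aeval vec := MvPolynomial.algHom_ext fun i => by simp [vec]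
    show valv v (MvPolynomial.aeval w F) ≠ 0
    rw [← AlgHom.comp_apply, e]
    exact hFv
  have hdN : 0 < d * N := Nat.mul_pos hd hN
  refine ⟨d * N, f, hdN, ⟨hfw, hfi⟩, ?_, nvOpen B.atlas hdN hfw, rfl, isAffineOpen_nvOpen B.atlas hB.2 hdN hfw⟩
  rw [← hv]
  exact mem_nonvanishing_of_valv_ne B hfv

end Groth.Agent.HMProj
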