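import Groth.Agent.HMProj.Rep
import Groth.Agent.HMTorus.Order
import Groth.Prelude.Def_SGA3t2b

/-!
# One parameter subgroups attached to maps into Laurent polynomials
-/

set_option autoImplicit false
set_option backward.isDefEq.respectTransparency false
set_option backward.isDefEq.respectTransparency.types false
set_option linter.style.haveILetI false

universe u

open CategoryTheory MonoidalCategory CartesianMonoidalCategory MonObj AlgebraicGeometry TensorProduct WithConv
open LaurentPolynomial (T)

noncomputable section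

namespace Groth.Agent.HMProj

open GrpSchLib GrpSchLib.Kunneth GrpSchLib.AffineHopf GrpSchLib.LineVec HMTorus

variable {k : Type u} [Field k]

/-- The Laurent polynomials at a unit. -/
def powHom {B : Type u} [CommRing B] [Algebra k B] (u : Bˣ) : LaurentPolynomial k →ₐ[k] B :=
  AddMonoidAlgebra.lift k B ℤ ((Units.coeHom B).comp (zpowersHom Bˣ u))

theorem powHom_T {B : Type u} [CommRing B] [Algebra k B] (u : Bˣ) (n : ℤ) :
    powHom (k := k) u (T n) = ((u ^ n : Bˣ) : B) := by
  rw [powHom, T, AddMonoidAlgebra.lift_single, one_smul]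
  rfl

theorem comp_powHom {B B' : Type u} [CommRing B] [Algebra k B] [CommRing B'] [Algebra k B'] (σ : B →ₐ[k] B') (u : Bˣ) :
    σ.comp (powHom u) = powHom (Units.map σ.toRingHom.toMonoidHom u) := by
  apply AddMonoidAlgebra.algHom_ext
  intro n
  show σ (powHom u (T n : LaurentPolynomial k)) = powHom _ (T n : LaurentPolynomial k)
  rw [powHom_T, powHom_T, ← map_zpow]
  rfl
  all_goals exact Subsingleton.elim _ _

theorem powHom_mul {B : Type u} [CommRing B] [Algebra k B] (u u' : Bˣ) (z : LaurentPolynomial k) :
    powHom (k := k) (u * u') z =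
      Algebra.TensorProduct.lift (powHom u) (powHom u') (fun _ _ => .all _ _) (Coalgebra.comul (R := k) z) := by
  induction z using LaurentPolynomial.induction_on' with
  | add p q hp hq => simp only [map_add, hp, hq]
  | C_mul_T n c =>
    rw [← LaurentPolynomial.smul_eq_C_mul, map_smul, map_smul, map_smul, LaurentPolynomial.comul_T,
      Algebra.TensorProduct.lift_tmul, powHom_T, powHom_T, powHom_T, mul_zpow, Units.val_mul]

theorem powHom_one {B : Type u} [CommRing B] [Algebra k B] (z : LaurentPolynomial k) :
    powHom (k := k) (1 : Bˣ) z = algebraMap k B (Coalgebra.counit (R := k) z) := by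
  induction z using LaurentPolynomial.induction_on' with
  | add p q hp hq => simp only [map_add, hp, hq]
  | C_mul_T n c =>
    rw [← LaurentPolynomial.smul_eq_C_mul, map_smul, map_smul, LaurentPolynomial.counit_T, powHom_T, one_zpow,
      Units.val_one, Algebra.smul_def, _root_.mul_one, smul_eq_mul, _root_.mul_one]

theorem powHom_zu_injective : Function.Injective (powHom (k := k) (zu (k := k))) := by
  refine Function.LeftInverse.injective (g := fun z => sigma (k := k) (AddMonoidAlgebra.of k ℤ |>.toHomUnits (Multiplicative.ofAdd 1)) z)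
    fun z => ?_
  have : (sigma (k := k) (AddMonoidAlgebra.of k ℤ |>.toHomUnits (Multiplicative.ofAdd 1))).comp (powHom zu) =
      AlgHom.id k (LaurentPolynomial k) := by
    rw [comp_powHom, map_sigma_zu]
    apply AddMonoidAlgebra.algHom_ext
    intro n
    show powHom _ (T n : LaurentPolynomial k) = (T n : LaurentPolynomial k)
    rw [powHom_T, ← map_zpow, ← ofAdd_zsmul, smul_eq_mul, _root_.mul_one]
    rfl
    all_goals exact Subsingleton.elim _ _
  exact DFunLike.congr_fun this z

variable {A : Type u} [CommRing A] [HopfAlgebra k A] (lam : A →ₐc[k] LaurentPolynomial k)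

/-- The map of functions of a point of the multiplicative group composed with `lam` and the inversion. -/
def lamFn {Y : Over (Spec (CommRingCat.of k))} (g : Y ⟶ Red.Gm (Spec (CommRingCat.of k))) : A →ₐ[k] Fn Y :=
  (powHom (GmPts.unitOfPt g)).comp ((lam : A →ₐ[k] LaurentPolynomial k).comp (HopfAlgebra.antipodeAlgHom k A))

/-- The one parameter subgroup of `lam`. -/
def oneParam : Red.Gm (Spec (CommRingCat.of k)) ⟶ sp k A :=
  aff _ ≫ spMap (lamFn lam (𝟙 _))

theorem fn_comp_oneParam {Y : Over (Spec (CommRingCat.of k))} (g : Y ⟶ Red.Gm (Spec (CommRingCat.of k))) :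
    fn (g ≫ oneParam lam) = lamFn lam g := by
  refine AlgHom.ext fun p => ?_
  show ev g (fn (oneParam lam) p) = _
  rw [oneParam, fn_aff]
  show ((ev g).comp (powHom _)) (lam (HopfAlgebra.antipode k p)) = _
  rw [comp_powHom]
  have e : Units.map (ev g).toRingHom.toMonoidHom (GmPts.unitOfPt (𝟙 (Red.Gm (Spec (CommRingCat.of k))))) =
      GmPts.unitOfPt g := by
    have := GmPts.unitOfPt_comp g (𝟙 (Red.Gm (Spec (CommRingCat.of k))))
    rw [Category.comp_id] at this
    exact this.symm
  rw [e]
  rfl

theorem mul_oneParam {Y : Over (Spec (CommRingCat.of k))} (g g' : Y ⟶ Red.Gm (Spec (CommRingCat.of k))) :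
    (g * g') ≫ oneParam lam = (g ≫ oneParam lam) * (g' ≫ oneParam lam) := by
  refine fn_injective (AlgHom.ext fun p => ?_)
  rw [fn_mul, fn_comp_oneParam, fn_comp_oneParam, fn_comp_oneParam]
  show powHom _ (lam (HopfAlgebra.antipode k p)) = (toConv (lamFn lam g) * toConv (lamFn lam g')) p
  rw [AlgHom.convMul_apply, GmPts.unitOfPt_mul, _root_.mul_comm, powHom_mul, ← CoalgHomClass.map_comp_comul_apply,
    ComodLib.comul_antipode]
  induction Coalgebra.comul (R := k) p using TensorProduct.induction_on with
  | zero => simp only [map_zero]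
  | tmul a b => simp [lamFn, _root_.mul_comm]
  | add a b ha hb => simp only [map_add, ha, hb]

instance isMonHom_oneParam : IsMonHom (oneParam lam) where
  one_hom := by
    refine fn_injective (AlgHom.ext fun p => ?_)
    rw [fn_comp_oneParam, MonObj.one_eq_one (M := sp k A), fn_one]
    show powHom (GmPts.unitOfPt η[Red.Gm (Spec (CommRingCat.of k))]) (lam (HopfAlgebra.antipode k p)) =
      (1 : WithConv (A →ₐ[k] Fn _)) p
    rw [MonObj.one_eq_one, GmPts.unitOfPt_one, powHom_one, CoalgHomClass.counit_comp_apply, AlgHom.convOne_apply,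
      HopfAlgebra.counit_antipode]
  mul_hom := by
    have e1 : μ[Red.Gm (Spec (CommRingCat.of k))] = fst _ _ * snd _ _ := by
      rw [Hom.mul_def, lift_fst_snd, Category.id_comp]
    rw [e1, mul_oneParam, Hom.mul_def]
    congr 1


theorem oneParam_ne_one (hlam : ¬ SGA3t2b.IsTrivialBialgHom lam) : oneParam lam ≠ 1 := by
  intro h
  refine hlam fun p => ?_
  have e := DFunLike.congr_fun (congrArg fn (congrArg (fun l => upt (k := k) (zu (k := k)) ≫ l) h))
    (HopfAlgebra.antipode k p)
  rw [fn_comp_oneParam, MonObj.comp_one, fn_one] at e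
  change powHom _ (lam (HopfAlgebra.antipode k (HopfAlgebra.antipode k p))) =
    (1 : WithConv (A →ₐ[k] Fn _)) (HopfAlgebra.antipode k p) at e
  rw [ComodLib.antipode_antipode_apply, AlgHom.convOne_apply, HopfAlgebra.counit_antipode] at e
  let grA : Fn (sp k (Lz k)) →ₐ[k] Lz k := (toFn (k := k) (A := Lz k)).symm.toAlgHom
  have hu : Units.map grA.toRingHom.toMonoidHom (GmPts.unitOfPt (upt (k := k) (zu (k := k)))) = zu := by
    refine Units.ext ?_
    show grA (GmPts.unitOfPt (upt (k := k) (zu (k := k)))).val = _
    rw [unitOfPt_upt]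
    exact gr_gl _
  refine powHom_zu_injective ?_
  rw [← hu, ← comp_powHom, AlgHom.comp_apply, AlgHom.comp_apply, e, AlgHom.commutes, AlgHom.commutes, AlgHom.commutes]

end Groth.Agent.HMProj
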