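import Groth.Agent.HMProj.Cone
import Groth.Agent.GITAff.Quot
import Groth.Agent.GITQuot.Orbit
import Groth.Agent.ComodLib.StableLocus
import Mathlib.AlgebraicGeometry.Morphisms.FinitePresentation

/-!
# An action with finite stabilisers on an affine scheme is closed
-/

set_option autoImplicit false
set_option backward.isDefEq.respectTransparency false
set_option backward.isDefEq.respectTransparency.types false
set_option linter.style.haveILetI false

universe u

open CategoryTheory CategoryTheory.Limits MonoidalCategory CartesianMonoidalCategory MonObj AlgebraicGeometry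
open TensorProduct WithConv Topology

noncomputable section

namespace Groth.Agent.HMProj

open GrpSchLib GrpSchLib.Kunneth GrpSchLib.AffineHopf GrpSchLib.LineVec GrpSchLib.LineGroups HMTorus

variable {k : Type u} [Field k]

/-- A constructible set with all closed points is everything. -/
theorem eq_univ_of_closedPoints {Z : Type u} [TopologicalSpace Z] [JacobsonSpace Z] {s : Set Z}
    (hs : IsConstructible s) (h : closedPoints Z ⊆ s) : s = Set.univ := by
  have key : ∀ z : Z, ∃ L : Set Z, IsLocallyClosed L ∧ z ∈ L ∧ (L ⊆ s ∨ L ⊆ sᶜ) := by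
    clear h
    induction hs using IsConstructible.empty_union_induction with
    | open_retrocompact U hU _ =>
      intro z
      by_cases hz : z ∈ U
      · exact ⟨U, hU.isLocallyClosed, hz, Or.inl le_rfl⟩
      · exact ⟨Uᶜ, hU.isClosed_compl.isLocallyClosed, hz, Or.inr le_rfl⟩
    | union s₁ _ s₂ _ h₁ h₂ =>
      intro z
      obtain ⟨L₁, hL₁, hz₁, h₁⟩ := h₁ z
      obtain ⟨L₂, hL₂, hz₂, h₂⟩ := h₂ z
      refine ⟨L₁ ∩ L₂, hL₁.inter hL₂, ⟨hz₁, hz₂⟩, ?_⟩
      rcases h₁ with h₁ | h₁
      · exact Or.inl fun w hw => Or.inl (h₁ hw.1)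
      rcases h₂ with h₂ | h₂
      · exact Or.inl fun w hw => Or.inr (h₂ hw.2)
      exact Or.inr fun w hw hm => hm.elim (h₁ hw.1) (h₂ hw.2)
    | compl s₁ _ h₁ =>
      intro z
      obtain ⟨L, hL, hz, h₁⟩ := h₁ z
      exact ⟨L, hL, hz, by rw [compl_compl]; exact h₁.symm⟩
  rw [Set.eq_univ_iff_forall]
  intro z
  obtain ⟨L, hL, hz, hLs | hLs⟩ := key z
  · exact hLs hz
  · obtain ⟨c, hc, hc'⟩ := nonempty_inter_closedPoints ⟨z, hz⟩ hL
    exact absurd (h hc') (hLs hc)

theorem algebraMap_unit_injective : Function.Injective (algebraMap k (Fn (𝟙_ (Over (Spec (CommRingCat.of k)))))) :=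
  fun a b h => by
    have h1 := congrArg ((LineGroups.spEquiv (k := k) k).symm.toAlgHom.comp (ev (toUnit (sp k k)))) h
    rwa [AlgHom.commutes, AlgHom.commutes] at h1

/-- A rational point of an affine scheme with prescribed values. -/
theorem valv_injective {V : Over (Spec (CommRingCat.of k))} [IsAffine V.left]
    {y z : 𝟙_ (Over (Spec (CommRingCat.of k))) ⟶ V} (h : valv y = valv z) : y = z := by
  refine ext_ev (AlgHom.ext fun f => ?_)
  show y.left.appTop f = z.left.appTop f
  rw [appTop_eq_of_valv, appTop_eq_of_valv, h]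

theorem exists_valv_eq {V : Over (Spec (CommRingCat.of k))} [IsAffine V.left] (x : Fn V →ₐ[k] k) :
    ∃ y : 𝟙_ (Over (Spec (CommRingCat.of k))) ⟶ V, valv y = x := by
  haveI : IsAffine (𝟙_ (Over (Spec (CommRingCat.of k)))).left := inferInstanceAs (IsAffine (Spec (CommRingCat.of k)))
  let φ : Fn V →ₐ[k] Fn (𝟙_ (Over (Spec (CommRingCat.of k)))) := (Algebra.ofId k _).comp x
  haveI : IsIso V.left.toSpecΓ := inferInstance
  haveI : IsIso (aff V) := by
    haveI : IsIso ((Over.forget _).map (aff V)) := ‹IsIso V.left.toSpecΓ›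
    exact isIso_of_reflects_iso (aff V) (Over.forget _)
  refine ⟨aff _ ≫ spMap φ ≫ inv (aff V), AlgHom.ext fun f => ?_⟩
  let z := aff (𝟙_ (Over (Spec (CommRingCat.of k)))) ≫ spMap φ ≫ inv (aff V)
  have e : z ≫ aff V = aff _ ≫ spMap φ := by simp [z]
  have h1 : z.left.appTop f = φ f := by
    have h2 : (z ≫ aff V).left.appTop ((Scheme.ΓSpecIso (CommRingCat.of (Fn V))).inv f) =
        (aff (𝟙_ (Over (Spec (CommRingCat.of k)))) ≫ spMap φ).left.appTop
          ((Scheme.ΓSpecIso (CommRingCat.of (Fn V))).inv f) := by rw [e]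
    have hV : ∀ (W : Over (Spec (CommRingCat.of k))) (g : Fn W),
        (aff W).left.appTop ((Scheme.ΓSpecIso (CommRingCat.of (Fn W))).inv g) = g := fun W g => by
      show W.left.toSpecΓ.appTop _ = g
      rw [Scheme.toSpecΓ_appTop]
      exact congrArg (fun r => r g) (congrArg CommRingCat.Hom.hom (Scheme.ΓSpecIso (CommRingCat.of (Fn W))).inv_hom_id)
    rw [Over.comp_left, GmPts.appTop_comp_apply, Over.comp_left, GmPts.appTop_comp_apply, hV] at h2
    refine h2.trans ?_
    rw [Over.comp_left, GmPts.appTop_comp_apply]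
    refine (congrArg _ ?_).trans (hV _ (φ f))
    exact congrArg (fun g => (ConcreteCategory.hom g) f)
      (Scheme.ΓSpecIso_inv_naturality (CommRingCat.ofHom φ.toRingHom)).symm
  have h3 : algebraMap k (Fn (𝟙_ (Over (Spec (CommRingCat.of k))))) (valv z f) = algebraMap k _ (x f) := by
    rw [← appTop_eq_of_valv, h1]; rfl
  exact algebraMap_unit_injective h3

variable {A : Type u} [CommRing A] [HopfAlgebra k A] {U : Over (Spec (CommRingCat.of k))} [IsAffine U.left]
  (aU : AlgGrp.Action (sp k A) U)

/-- Functions on an affine scheme with an action as a comodule. -/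
@[reducible] def fnComod : HopfRep.Comod k A (Fn U) := ComodLib.rightOfLeft (GITAff.lcomod aU)

theorem fnComod_coact (f : Fn U) : letI := fnComod aU
    HopfRep.Comod.coact (k := k) (A := A) f = Algebra.TensorProduct.comm k A (Fn U)
      (Algebra.TensorProduct.map (HopfAlgebra.antipodeAlgHom k A) (AlgHom.id k (Fn U)) (co aU f)) := by
  show ComodSub.rcoactOfLeft (GITAff.lcomod aU) f = _
  rw [ComodSub.rcoactOfLeft_apply]
  rfl

theorem fnComod_isCoactAlg : letI := fnComod aU
    GLin.IsCoactAlg k A (Fn U) := by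
  letI := fnComod aU
  exact ⟨by rw [fnComod_coact, map_one, map_one, map_one],
    fun f g => by rw [fnComod_coact, fnComod_coact, fnComod_coact, map_mul, map_mul, map_mul]⟩

variable [IsAlgClosed k] [CharZero k] [Algebra.FiniteType k A]

omit [IsAlgClosed k] [CharZero k] [Algebra.FiniteType k A] in
theorem actPt_valv (g : A →ₐ[k] k) (y : 𝟙_ (Over (Spec (CommRingCat.of k))) ⟶ U) :
    letI := fnComod aU; haveI := fnComod_isCoactAlg aU
    GLin.actPt k g (valv y) =
      valv (lift (kpt (g.comp (HopfAlgebra.antipodeAlgHom k A)) _) y ≫ aU.act) := by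
  letI := fnComod aU; haveI := fnComod_isCoactAlg aU
  refine AlgHom.ext fun f => ?_
  have e : valv (lift (kpt (g.comp (HopfAlgebra.antipodeAlgHom k A)) _) y ≫ aU.act) f =
      Algebra.TensorProduct.lift (g.comp (HopfAlgebra.antipodeAlgHom k A)) (valv y) (fun _ _ => .all _ _) (co aU f) := by
    refine algebraMap_unit_injective ?_
    rw [← appTop_eq_of_valv, ← ev_apply, ← ev_ev, ← prodV_co, ev_lift_prodV, fn_kpt]
    induction co aU f using TensorProduct.induction_on with
    | zero => simp only [map_zero]
    | tmul p q =>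
      rw [Algebra.TensorProduct.lift_tmul, Algebra.TensorProduct.lift_tmul, map_mul, ev_apply, appTop_eq_of_valv]
      rfl
    | add p q hp hq => simp only [map_add, hp, hq]
  rw [e]
  show g (GLin.orbitHom k A (valv y) f) = _
  rw [ComodLib.orbitHom_apply, fnComod_coact]
  induction co aU f using TensorProduct.induction_on with
  | zero => simp only [map_zero]
  | tmul p q =>
    simp [ComodLib.coefFun, mul_comm]
  | add p q hp hq => simp only [map_add, hp, hq]

/-- With finite stabilisers at the rational points the action is closed. -/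
theorem isClosedAction_of_finite [LocallyOfFiniteType U.hom] [QuasiCompact U.hom] [LocallyOfFiniteType (sp k A).hom]
    {α : A →ₗ[k] k} (hα : ComodLib.IsIntegral k α) (h1 : α 1 = 1)
    (hfin : ∀ y : 𝟙_ (Over (Spec (CommRingCat.of k))) ⟶ U,
      Finite {g : 𝟙_ (Over (Spec (CommRingCat.of k))) ⟶ sp k A // lift g y ≫ aU.act = y}) :
    ∀ (Ω : Type u) [Field Ω] [IsAlgClosed Ω] (T : Over (Spec (CommRingCat.of k)))
      (_ : T.left ≅ Spec (CommRingCat.of Ω)) (f : T ⟶ U), IsClosed (Set.range (GIT.psi aU f).left.base) := by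
  classical
  letI := fnComod aU; haveI := fnComod_isCoactAlg aU
  haveI : Algebra.FiniteType k (Fn U) := by
    refine RingHom.finiteType_algebraMap.mp ?_
    have h := (HasRingHomProperty.iff_of_isAffine (P := @LocallyOfFiniteType)).mp ‹LocallyOfFiniteType U.hom›
    exact RingHom.FiniteType.comp (g := U.hom.appTop.hom) (f := (Scheme.ΓSpecIso (CommRingCat.of k)).inv.hom) h
      (RingHom.FiniteType.of_surjective _
        (ConcreteCategory.bijective_of_isIso (Scheme.ΓSpecIso (CommRingCat.of k)).inv).2)
  let φ := GITAff.quotMap aU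
  have hq := GITAff.fnQuot_quotMap aU
  have hstab : ∀ x : Fn U →ₐ[k] k, (ComodLib.stab (A := A) x).Finite := fun x => by
    obtain ⟨y, rfl⟩ := exists_valv_eq x
    haveI := hfin y
    refine Set.finite_coe_iff.1 (Finite.of_injective (β := {g : 𝟙_ _ ⟶ sp k A // lift g y ≫ aU.act = y})
      (fun g => ⟨kpt ((g.1.ofConv).comp (HopfAlgebra.antipodeAlgHom k A)) _,
        valv_injective ((actPt_valv aU g.1.ofConv y).symm.trans g.2)⟩) fun g g' h => ?_)
    refine Subtype.ext (WithConv.ext (AlgHom.ext fun p => ?_))
    have h2 := DFunLike.congr_fun (congrArg fn (congrArg Subtype.val h)) (HopfAlgebra.antipode k p)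
    rw [fn_kpt, fn_kpt] at h2
    simpa [ComodLib.antipode_antipode_apply] using
      algebraMap_unit_injective h2
  have horb : ∀ y z : 𝟙_ (Over (Spec (CommRingCat.of k))) ⟶ U, y ≫ φ = z ≫ φ →
      ∃ g : 𝟙_ _ ⟶ sp k A, lift g y ≫ aU.act = z := fun y z he => by
    have hy : ComodLib.IsStb (A := A) (valv y) :=
      (ComodLib.isStb_iff_forall_fibre hα h1 _).2 fun x _ => hstab x
    obtain ⟨g, hg⟩ := hy.exists_actPt hα h1 (z := valv z) fun f hf => by
      have hinv : GLinSh.IsInvFn aU f := (isInvFn_iff aU f).2 fun g => by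
        rw [T'_apply]
        have e := congrArg (fun t => (TensorProduct.lid k (Fn U)) ((g.toLinearMap).rTensor (Fn U)
          (Algebra.TensorProduct.map (HopfAlgebra.antipodeAlgHom k A) (AlgHom.id k (Fn U))
            ((Algebra.TensorProduct.comm k A (Fn U)).symm t))))
          ((fnComod_coact aU f).symm.trans (show _ = f ⊗ₜ[k] (1 : A) from hf))
        have hS : ∀ t : A ⊗[k] Fn U, Algebra.TensorProduct.map (HopfAlgebra.antipodeAlgHom k A) (AlgHom.id k (Fn U))
            (Algebra.TensorProduct.map (HopfAlgebra.antipodeAlgHom k A) (AlgHom.id k (Fn U)) t) = t := fun t => by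
          induction t using TensorProduct.induction_on with
          | zero => simp only [map_zero]
          | tmul p q => simp [ComodLib.antipode_antipode_apply]
          | add p q hp hq => simp only [map_add, hp, hq]
        simp only [AlgEquiv.symm_apply_apply, hS] at e
        rw [e]
        simp
      obtain ⟨b, rfl⟩ := hq.range f hinv
      refine algebraMap_unit_injective ?_
      rw [← appTop_eq_of_valv, ← appTop_eq_of_valv, ← ev_apply, ← ev_apply, ev_ev, ev_ev, he]
    exact ⟨_, valv_injective ((actPt_valv aU g y).symm.trans hg.symm)⟩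
  have ho : Function.Surjective (GIT.PsiY aU φ hq.inv).base := by
    let P := pullback φ.left φ.left
    let q : P ⟶ Spec (CommRingCat.of k) := pullback.fst φ.left φ.left ≫ U.hom
    haveI : LocallyOfFiniteType φ.left := by
      haveI : LocallyOfFiniteType (φ.left ≫ (GITAff.quot aU).hom) := by rw [Over.w]; infer_instance
      exact locallyOfFiniteType_of_comp φ.left (GITAff.quot aU).hom
    haveI : LocallyOfFiniteType q := inferInstance
    haveI : IsLocallyNoetherian P := LocallyOfFiniteType.isLocallyNoetherian q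
    haveI : JacobsonSpace P := LocallyOfFiniteType.jacobsonSpace q
    haveI : LocallyOfFiniteType (sp k A ⊗ U).hom :=
      inferInstanceAs (LocallyOfFiniteType (pullback.fst (sp k A).hom U.hom ≫ (sp k A).hom))
    let Ψ : (sp k A ⊗ U).left ⟶ P := GIT.PsiY aU φ hq.inv
    have hΨq : Ψ ≫ q = (sp k A ⊗ U).hom := by
      show GIT.PsiY aU φ hq.inv ≫ pullback.fst _ _ ≫ U.hom = _
      rw [← Category.assoc, GIT.PsiY, pullback.lift_fst, Over.w]
    haveI : LocallyOfFiniteType Ψ := by
      haveI : LocallyOfFiniteType (Ψ ≫ q) := by rw [hΨq]; infer_instance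
      exact locallyOfFiniteType_of_comp Ψ q
    haveI : IsAffine (sp k A ⊗ U).left := GITAff.isAffine_tensor _ _
    haveI : QuasiCompact Ψ := inferInstance
    have hc : IsConstructible (Set.range Ψ.base) := by
      have := Ψ.isConstructible_image (s := Set.univ) IsConstructible.univ
      rwa [Set.image_univ] at this
    refine Set.range_eq_univ.1 (eq_univ_of_closedPoints hc fun c hcc => ?_)
    let sp' := (pointEquivClosedPoint q).symm ⟨c, hcc⟩
    let s := sp'.1
    have hs : s ≫ q = 𝟙 _ := sp'.2
    have hsc : s.base (IsLocalRing.closedPoint k) = c :=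
      congrArg Subtype.val ((pointEquivClosedPoint q).apply_symm_apply ⟨c, hcc⟩)
    let z : 𝟙_ (Over (Spec (CommRingCat.of k))) ⟶ U := Over.homMk (s ≫ pullback.fst φ.left φ.left) (by
      rw [Category.assoc]; exact hs)
    let y : 𝟙_ (Over (Spec (CommRingCat.of k))) ⟶ U := Over.homMk (s ≫ pullback.snd φ.left φ.left) (by
      rw [Category.assoc, ← Over.w φ, ← pullback.condition_assoc, Over.w φ]; exact hs)
    obtain ⟨g, hg⟩ := horb y z (Over.OverMorphism.ext (by
      show (s ≫ pullback.snd φ.left φ.left) ≫ φ.left = (s ≫ pullback.fst φ.left φ.left) ≫ φ.left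
      rw [Category.assoc, Category.assoc, pullback.condition]))
    refine ⟨(lift g y).left.base (IsLocalRing.closedPoint k), ?_⟩
    rw [← hsc]
    show ((lift g y).left ≫ GIT.PsiY aU φ hq.inv).base _ = _
    refine congrArg (fun t => (t : Spec (CommRingCat.of k) ⟶ P).base (IsLocalRing.closedPoint k)) ?_
    apply pullback.hom_ext
    · rw [Category.assoc, GIT.PsiY, pullback.lift_fst, ← Over.comp_left, hg]
      rfl
    · rw [Category.assoc, GIT.PsiY, pullback.lift_snd, ← Over.comp_left, lift_snd]
      rfl
  intro Ω _ _ T e f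
  exact GITQuot.isClosed_range_psi_of_orbit hq.inv ho e f

end Groth.Agent.HMProj
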