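import Groth.Agent.GITAff.Coact
import Groth.Agent.HMCrit.Closed
import Groth.Agent.ComodLib.LinearAction

/-!
# Finite dimensional spaces of functions stable under an affine group
-/

set_option autoImplicit false
set_option backward.isDefEq.respectTransparency false
set_option backward.isDefEq.respectTransparency.types false
set_option linter.style.haveILetI false

universe u

open CategoryTheory MonoidalCategory CartesianMonoidalCategory MonObj AlgebraicGeometry TensorProduct WithConv

noncomputable section

namespace Groth.Agent.HMProj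

open GrpSchLib GrpSchLib.Kunneth GrpSchLib.AffineHopf GrpSchLib.LineVec

variable {k : Type u} [Field k] {A : Type u} [CommRing A] [HopfAlgebra k A]

/-- A rational point of the group as a point with values in any scheme. -/
def kpt (g : A →ₐ[k] k) (T : Over (Spec (CommRingCat.of k))) : T ⟶ sp k A :=
  aff T ≫ spMap ((Algebra.ofId k (Fn T)).comp g)

theorem fn_kpt (g : A →ₐ[k] k) (T : Over (Spec (CommRingCat.of k))) :
    fn (kpt g T) = (Algebra.ofId k (Fn T)).comp g := fn_aff _

theorem comp_kpt (g : A →ₐ[k] k) {T T' : Over (Spec (CommRingCat.of k))} (q : T' ⟶ T) :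
    q ≫ kpt g T = kpt g T' :=
  fn_injective (AlgHom.ext fun p => by
    show ev q (fn (kpt g T) p) = fn (kpt g T') p
    rw [fn_kpt, fn_kpt]
    exact (ev q).commutes _)

theorem kpt_mul (g h : A →ₐ[k] k) (T : Over (Spec (CommRingCat.of k))) :
    kpt (toConv g * toConv h).ofConv T = kpt g T * kpt h T :=
  fn_injective (AlgHom.ext fun p => by
    rw [fn_mul, fn_kpt, fn_kpt, fn_kpt]
    show algebraMap k (Fn T) ((toConv g * toConv h) p) = (toConv ((Algebra.ofId k (Fn T)).comp g) * toConv ((Algebra.ofId k (Fn T)).comp h)) p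
    rw [AlgHom.convMul_apply, AlgHom.convMul_apply]
    induction Coalgebra.comul (R := k) p using TensorProduct.induction_on with
    | zero => simp only [map_zero]
    | tmul a b => simp [Algebra.ofId_apply]
    | add a b ha hb => simp only [map_add, ha, hb])

theorem kpt_one (T : Over (Spec (CommRingCat.of k))) : kpt (1 : WithConv (A →ₐ[k] k)).ofConv T = 1 :=
  fn_injective (AlgHom.ext fun p => by
    rw [fn_kpt, fn_one]
    show algebraMap k (Fn T) ((1 : WithConv (A →ₐ[k] k)) p) = (1 : WithConv (A →ₐ[k] Fn T)) p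
    rw [AlgHom.convOne_apply, AlgHom.convOne_apply]
    simp)

variable {V : Over (Spec (CommRingCat.of k))} (Φ : AlgGrp.Action (sp k A) V)

/-- Translation by a rational point. -/
def tr (g : A →ₐ[k] k) : V ⟶ V := lift (kpt g V) (𝟙 V) ≫ Φ.act

/-- Functions moved by a rational point. -/
def T' (g : A →ₐ[k] k) : Fn V →ₐ[k] Fn V := ev (tr Φ g)

theorem T'_mul (g h : A →ₐ[k] k) (f : Fn V) : T' Φ (toConv g * toConv h).ofConv f = T' Φ h (T' Φ g f) := by
  rw [T', T', T', ev_ev]
  congr 2
  rw [tr, tr, tr, kpt_mul, ← GrpSchLib.act_mul Φ, ← Category.assoc (lift (kpt h V) (𝟙 V) ≫ Φ.act), comp_lift, comp_kpt,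
    Category.comp_id]

theorem T'_one (f : Fn V) : T' Φ (1 : WithConv (A →ₐ[k] k)).ofConv f = f := by
  rw [T', tr, kpt_one, GrpSchLib.act_one, ev_id]

theorem eq_zero_of_forall_pt [IsAlgClosed k] [CharZero k] [Algebra.FiniteType k A] {M : Type*} [AddCommGroup M]
    [Module k M] (z : A ⊗[k] M) (h : ∀ g : A →ₐ[k] k, TensorProduct.lid k M (g.toLinearMap.rTensor M z) = 0) :
    z = 0 := by
  classical
  let b := Module.Basis.ofVectorSpace k M
  apply (TensorProduct.equivFinsuppOfBasisRight b).injective
  rw [map_zero]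
  refine Finsupp.ext fun j => HMCrit.eq_of_forall_point_A (k := k) fun g => ?_
  have e : ∀ z : A ⊗[k] M, g (TensorProduct.equivFinsuppOfBasisRight b z j) =
      b.repr (TensorProduct.lid k M (g.toLinearMap.rTensor M z)) j := fun z => by
    induction z using TensorProduct.induction_on with
    | zero => simp
    | tmul p y => simp [mul_comm]
    | add p q hp hq => simp only [map_add, Finsupp.add_apply, hp, hq]
  rw [e, h g]
  simp

variable [QuasiCompact V.hom] [IsSeparated V.hom]

/-- Functions on the product with the group. -/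
def prodV : (A ⊗[k] Fn V) ≃ₐ[k] Fn (sp k A ⊗ V) :=
  (Algebra.TensorProduct.congr (toFn (k := k) (A := A)) AlgEquiv.refl).trans
    (AlgEquiv.ofBijective (toProd (sp k A) V) (toProd_bijective (sp k A) V))

theorem prodV_tmul (p : A) (y : Fn V) :
    prodV (V := V) (p ⊗ₜ[k] y) = fn (fst (sp k A) V) p * ev (snd (sp k A) V) y := by
  show toProd (sp k A) V (toFn (k := k) p ⊗ₜ[k] y) = _
  exact Algebra.TensorProduct.lift_tmul _ _ (fun _ _ => .all _ _) _ _

/-- The pull back of functions along the action. -/
def co : Fn V →ₐ[k] A ⊗[k] Fn V := (prodV (V := V)).symm.toAlgHom.comp (ev Φ.act)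

theorem prodV_co (f : Fn V) : prodV (co Φ f) = ev Φ.act f := (prodV (V := V)).apply_symm_apply _

theorem ev_lift_prodV {T : Over (Spec (CommRingCat.of k))} (h : T ⟶ sp k A) (v : T ⟶ V) (z : A ⊗[k] Fn V) :
    ev (lift h v) (prodV z) = Algebra.TensorProduct.lift (fn h) (ev v) (fun _ _ => .all _ _) z := by
  induction z using TensorProduct.induction_on with
  | zero => simp only [map_zero]
  | tmul p y =>
    rw [prodV_tmul, map_mul, Algebra.TensorProduct.lift_tmul, ev_ev, lift_snd,
      show ev (lift h v) (fn (fst (sp k A) V) p) = fn (lift h v ≫ fst (sp k A) V) p from rfl, lift_fst]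
  | add p q hp hq => simp only [map_add, hp, hq]

theorem T'_apply (g : A →ₐ[k] k) (f : Fn V) :
    T' Φ g f = TensorProduct.lid k (Fn V) (g.toLinearMap.rTensor (Fn V) (co Φ f)) := by
  rw [T', tr, ← ev_ev, ← prodV_co, ev_lift_prodV, fn_kpt]
  induction co Φ f using TensorProduct.induction_on with
  | zero => simp only [map_zero]
  | tmul p y =>
    rw [Algebra.TensorProduct.lift_tmul, LinearMap.rTensor_tmul, TensorProduct.lid_tmul, ev_id, Algebra.smul_def]
    rfl
  | add p q hp hq => simp only [map_add, hp, hq]

variable [IsAlgClosed k] [CharZero k] [Algebra.FiniteType k A]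

theorem ext_pt {f : Fn V} {z : A ⊗[k] Fn V}
    (h : ∀ g : A →ₐ[k] k, TensorProduct.lid k (Fn V) (g.toLinearMap.rTensor (Fn V) z) = T' Φ g f) :
    co Φ f = z := by
  refine sub_eq_zero.1 (eq_zero_of_forall_pt _ fun g => ?_)
  rw [map_sub, map_sub, ← T'_apply, h g, sub_self]

theorem isInvFn_iff (f : Fn V) : GLinSh.IsInvFn Φ f ↔ ∀ g : A →ₐ[k] k, T' Φ g f = f := by
  have e : ev (snd (sp k A) V) f = prodV ((1 : A) ⊗ₜ[k] f) := by rw [prodV_tmul, map_one, _root_.one_mul]
  constructor
  · intro h g
    rw [T', tr, ← ev_ev, show ev Φ.act f = ev (snd (sp k A) V) f from h, ev_ev, lift_snd, ev_id]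
  · intro h
    show ev Φ.act f = ev (snd (sp k A) V) f
    rw [e, ← prodV_co]
    refine congrArg prodV (ext_pt Φ fun g => ?_)
    rw [LinearMap.rTensor_tmul, TensorProduct.lid_tmul, AlgHom.toLinearMap_apply, map_one, one_smul, h g]

/-- A matrix of functions of the group moving the family `w`. -/
structure IsRepMat {κ : Type u} [Fintype κ] (w : κ → Fn V) (m : κ → κ → A) : Prop where
  eq : ∀ i, co Φ (w i) = ∑ j, m i j ⊗ₜ[k] w j
  comul : ∀ i j, Coalgebra.comul (R := k) (m i j) = ∑ l, m i l ⊗ₜ[k] m l j
  counit : ∀ i i', i ≠ i' → Coalgebra.counit (R := k) (m i i') = 0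
  counit_self : ∀ i, Coalgebra.counit (R := k) (m i i) = 1

/-- Finitely many members of a stable space lie in a finite stable family. -/
theorem exists_repMat (M : Submodule k (Fn V)) (hM : ∀ g, ∀ f ∈ M, T' Φ g f ∈ M) (F : Finset (Fn V))
    (hF : (F : Set (Fn V)) ⊆ M) :
    ∃ (κ : Type u) (_ : Fintype κ) (w : κ → Fn V) (m : κ → κ → A),
      (∀ i, w i ∈ M) ∧ (↑F ⊆ (Submodule.span k (Set.range w) : Set (Fn V))) ∧ IsRepMat Φ w m := by
  classical
  let W : Submodule k (Fn V) := Submodule.span k (Set.range fun p : (A →ₐ[k] k) × F => T' Φ p.1 p.2.1)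
  have hWM : W ≤ M := Submodule.span_le.2 (by rintro _ ⟨p, rfl⟩; exact hM _ _ (hF p.2.2))
  have hWst : ∀ h, ∀ f ∈ W, T' Φ h f ∈ W := fun h f hf => by
    induction hf using Submodule.span_induction with
    | mem x hx =>
      obtain ⟨p, rfl⟩ := hx
      exact Submodule.subset_span ⟨((toConv p.1 * toConv h).ofConv, p.2), T'_mul Φ p.1 h p.2.1⟩
    | zero => rw [map_zero]; exact W.zero_mem
    | add x y _ _ hx hy => rw [map_add]; exact W.add_mem hx hy
    | smul c x _ hx => rw [map_smul]; exact W.smul_mem c hx
  have hFW : ∀ f ∈ F, f ∈ W := fun f hf =>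
    Submodule.subset_span ⟨((1 : WithConv (A →ₐ[k] k)).ofConv, ⟨f, hf⟩), T'_one Φ f⟩
  choose S hS using fun f : F => TensorProduct.exists_finset (co Φ f.1)
  haveI : FiniteDimensional k W := by
    let Y : Submodule k (Fn V) := Submodule.span k (((Finset.univ : Finset F).biUnion fun f => (S f).image Prod.snd : Finset (Fn V)) : Set (Fn V))
    haveI : FiniteDimensional k Y := FiniteDimensional.span_finset k _
    refine Submodule.finiteDimensional_of_le (S₂ := Y) (Submodule.span_le.2 ?_)
    rintro _ ⟨⟨g, f⟩, rfl⟩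
    show T' Φ g f.1 ∈ Y
    rw [T'_apply, hS f, map_sum, map_sum]
    refine Submodule.sum_mem _ fun p hp => ?_
    rw [LinearMap.rTensor_tmul, TensorProduct.lid_tmul]
    exact Submodule.smul_mem _ _ (Submodule.subset_span (Finset.mem_biUnion.2
      ⟨f, Finset.mem_univ _, Finset.mem_image_of_mem _ hp⟩))
  let κ : Type u := ULift.{u} (Fin (Module.finrank k W))
  let bW : Module.Basis κ k W := (Module.finBasis k W).reindex Equiv.ulift.symm
  obtain ⟨P, hP⟩ := Submodule.exists_isCompl W
  let pr : Fn V →ₗ[k] W := W.projectionOnto P hP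
  have hpr : ∀ f (hf : f ∈ W), pr f = ⟨f, hf⟩ := fun f hf => Submodule.projectionOnto_apply_left hP ⟨f, hf⟩
  let w : κ → Fn V := fun i => (bW i : Fn V)
  let m : κ → κ → A := fun i j => TensorProduct.rid k A (((bW.coord j).comp pr).lTensor A (co Φ (w i)))
  have hw : ∀ i, w i ∈ W := fun i => (bW i).2
  have hm : ∀ g i j, g (m i j) = bW.coord j (pr (T' Φ g (w i))) := fun g i j => by
    rw [T'_apply]
    simp only [m]
    induction co Φ (w i) using TensorProduct.induction_on with
    | zero => simp only [map_zero]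
    | tmul p y => simp [mul_comm]
    | add p q hp hq => simp only [map_add, hp, hq]
  have hT : ∀ g i, T' Φ g (w i) = ∑ j, g (m i j) • w j := fun g i => by
    have h1 := hWst g _ (hw i)
    conv_lhs => rw [show T' Φ g (w i) = ((⟨_, h1⟩ : W) : Fn V) from rfl, ← bW.sum_repr ⟨_, h1⟩]
    rw [Submodule.coe_sum]
    refine Finset.sum_congr rfl fun j _ => ?_
    rw [hm, hpr _ h1]
    rfl
  have hind : LinearIndependent k w := bW.linearIndependent.map' W.subtype W.ker_subtype
  refine ⟨κ, inferInstance, w, m, fun i => hWM (hw i), fun f hf => ?_, ?_, ?_, ?_, ?_⟩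
  · have : (⟨f, hFW f hf⟩ : W) ∈ Submodule.span k (Set.range bW) := bW.mem_span _
    have := Submodule.mem_map_of_mem (f := W.subtype) this
    rw [Submodule.map_span, ← Set.range_comp] at this
    exact this
  · intro i
    refine ext_pt Φ fun g => ?_
    rw [hT, map_sum, map_sum]
    simp
  · intro i j
    haveI : Algebra.FiniteType k (A ⊗[k] A) := Algebra.FiniteType.trans (S := A) inferInstance inferInstance
    refine HMCrit.eq_of_forall_point_A (k := k) (A := A ⊗[k] A) fun φ => ?_
    let g : A →ₐ[k] k := φ.comp Algebra.TensorProduct.includeLeft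
    let h : A →ₐ[k] k := φ.comp Algebra.TensorProduct.includeRight
    have hφ : ∀ z, φ z = Algebra.TensorProduct.lift g h (fun _ _ => .all _ _) z := fun z => by
      induction z using TensorProduct.induction_on with
      | zero => simp only [map_zero]
      | tmul a b => simp [g, h, ← map_mul]
      | add a b ha hb => simp only [map_add, ha, hb]
    have e1 : φ (Coalgebra.comul (R := k) (m i j)) = (toConv g * toConv h).ofConv (m i j) := by
      rw [hφ]
      show _ = (toConv g * toConv h) (m i j)
      rw [AlgHom.convMul_apply]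
    have e2 := T'_mul Φ g h (w i)
    rw [hT, hT g i, map_sum] at e2
    simp only [map_smul, hT, Finset.smul_sum, smul_smul] at e2
    rw [Finset.sum_comm] at e2
    simp only [← Finset.sum_smul] at e2
    have e3 := (Fintype.linearIndependent_iff.1 hind) (fun l => (toConv g * toConv h).ofConv (m i l) - ∑ p, g (m i p) * h (m p l))
      (by simp only [sub_smul, Finset.sum_sub_distrib, e2, sub_self]) j
    rw [e1, sub_eq_zero.1 e3, map_sum]
    simp [g, h, ← map_mul]
  · intro i i' hne
    have := hm (1 : WithConv (A →ₐ[k] k)).ofConv i i'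
    rw [T'_one, hpr _ (hw i)] at this
    rw [show Coalgebra.counit (R := k) (m i i') = (1 : WithConv (A →ₐ[k] k)) (m i i') by
      rw [AlgHom.convOne_apply]; rfl]
    refine this.trans ?_
    simp [w, hne]
  · intro i
    have := hm (1 : WithConv (A →ₐ[k] k)).ofConv i i
    rw [T'_one, hpr _ (hw i)] at this
    rw [show Coalgebra.counit (R := k) (m i i) = (1 : WithConv (A →ₐ[k] k)) (m i i) by
      rw [AlgHom.convOne_apply]; rfl]
    refine this.trans ?_
    simp [w]

variable {Φ} {κ : Type u} [Fintype κ] {w : κ → Fn V} {m : κ → κ → A}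

theorem IsRepMat.T'_apply (hw : IsRepMat Φ w m) (g : A →ₐ[k] k) (i : κ) :
    T' Φ g (w i) = ∑ j, g (m i j) • w j := by
  rw [HMProj.T'_apply, hw.eq, map_sum, map_sum]
  simp

omit [IsAlgClosed k] [CharZero k] [Algebra.FiniteType k A] in
/-- The family along a point of the group. -/
theorem IsRepMat.ev_lift_act (hw : IsRepMat Φ w m) {T : Over (Spec (CommRingCat.of k))} (h : T ⟶ sp k A) (v : T ⟶ V)
    (i : κ) : ev (lift h v ≫ Φ.act) (w i) = ∑ j, fn h (m i j) * ev v (w j) := by
  rw [← ev_ev, ← prodV_co, ev_lift_prodV, hw.eq, map_sum]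
  simp

section Linear

variable (m)

/-- The right coaction on polynomials attached to a matrix. -/
def polyCo : MvPolynomial κ k →ₐ[k] MvPolynomial κ k ⊗[k] A :=
  MvPolynomial.aeval fun i => ∑ j, (MvPolynomial.X j : MvPolynomial κ k) ⊗ₜ[k] HopfAlgebra.antipode k (m i j)

theorem polyCo_X (i : κ) : polyCo (k := k) m (MvPolynomial.X i) =
    ∑ j, (MvPolynomial.X j : MvPolynomial κ k) ⊗ₜ[k] HopfAlgebra.antipode k (m i j) := by
  simp [polyCo]

variable {m}

theorem IsRepMat.comul_antipode' (hw : IsRepMat Φ w m) (i j : κ) :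
    Coalgebra.comul (R := k) (HopfAlgebra.antipode k (m i j)) =
      ∑ l, HopfAlgebra.antipode k (m l j) ⊗ₜ[k] HopfAlgebra.antipode k (m i l) := by
  rw [ComodLib.comul_antipode, hw.comul, map_sum, map_sum]
  simp

/-- The linear action on polynomials. -/
@[reducible] def IsRepMat.comod (hw : IsRepMat Φ w m) : HopfRep.Comod k A (MvPolynomial κ k) where
  coact := (polyCo (k := k) m).toLinearMap
  coassoc := by
    have h : (Algebra.TensorProduct.assoc k k k (MvPolynomial κ k) A A).toAlgHom.comp
        ((Algebra.TensorProduct.map (polyCo (k := k) m) (AlgHom.id k A)).comp (polyCo (k := k) m)) =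
        (Algebra.TensorProduct.map (AlgHom.id k _) (Bialgebra.comulAlgHom k A)).comp (polyCo (k := k) m) := by
      apply MvPolynomial.algHom_ext
      intro i
      simp only [AlgHom.comp_apply, polyCo_X, map_sum, Algebra.TensorProduct.map_tmul, AlgHom.id_apply,
        AlgHom.coe_coe, TensorProduct.sum_tmul, Bialgebra.comulAlgHom_apply, hw.comul_antipode', TensorProduct.tmul_sum]
      rw [Finset.sum_comm]
      rfl
    apply LinearMap.ext
    intro f
    have := DFunLike.congr_fun h f
    simp only [AlgHom.comp_apply] at this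
    refine Eq.trans ?_ (this.trans ?_)
    · simp only [LinearMap.comp_apply, LinearEquiv.coe_coe, AlgHom.toLinearMap_apply]
      generalize polyCo (k := k) m f = z
      induction z using TensorProduct.induction_on with
      | zero => simp
      | tmul p a => simp; rfl
      | add p q hp hq => simp only [map_add, hp, hq]
    · simp only [LinearMap.comp_apply, AlgHom.toLinearMap_apply]
      generalize polyCo (k := k) m f = z
      induction z using TensorProduct.induction_on with
      | zero => simp
      | tmul p a => simp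
      | add p q hp hq => simp only [map_add, hp, hq]
  counit_comp := by
    classical
    have h : (Algebra.TensorProduct.rid k k (MvPolynomial κ k)).toAlgHom.comp
        ((Algebra.TensorProduct.map (AlgHom.id k _) (Bialgebra.counitAlgHom k A)).comp (polyCo (k := k) m)) =
        AlgHom.id k _ := by
      apply MvPolynomial.algHom_ext
      intro i
      simp only [AlgHom.comp_apply, polyCo_X, map_sum, Algebra.TensorProduct.map_tmul, AlgHom.id_apply,
        Bialgebra.counitAlgHom_apply, HopfAlgebra.counit_antipode]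
      rw [Finset.sum_eq_single i (fun j _ hj => by simp [hw.counit i j (Ne.symm hj)]) (by simp), hw.counit_self]
      simp
    apply LinearMap.ext
    intro f
    apply (TensorProduct.rid k (MvPolynomial κ k)).injective
    simp only [LinearMap.comp_apply, LinearMap.flip_apply, TensorProduct.mk_apply, TensorProduct.rid_tmul, one_smul]
    refine Eq.trans ?_ (DFunLike.congr_fun h f)
    simp only [AlgHom.comp_apply, AlgHom.toLinearMap_apply]
    generalize polyCo (k := k) m f = z
    induction z using TensorProduct.induction_on with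
    | zero => simp
    | tmul p a => simp
    | add p q hp hq => simp only [map_add, hp, hq]

theorem IsRepMat.isCoactAlg (hw : IsRepMat Φ w m) :
    letI := hw.comod
    GLin.IsCoactAlg k A (MvPolynomial κ k) :=
  letI := hw.comod
  ⟨map_one (polyCo (k := k) m), map_mul (polyCo (k := k) m)⟩

theorem IsRepMat.isLinear (hw : IsRepMat Φ w m) :
    letI := hw.comod
    GLin.IsLinear k A κ :=
  fun i => ⟨fun j => HopfAlgebra.antipode k (m i j), polyCo_X m i⟩

/-- Invariant polynomials give invariant functions. -/
theorem IsRepMat.isInvFn_aeval (hw : IsRepMat Φ w m) {F : MvPolynomial κ k}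
    (hF : polyCo (k := k) m F = F ⊗ₜ[k] (1 : A)) : GLinSh.IsInvFn Φ (MvPolynomial.aeval w F) := by
  rw [HMProj.isInvFn_iff]
  intro g
  let gS : A →ₐ[k] k := g.comp (HopfAlgebra.antipodeAlgHom k A)
  have h : (T' Φ g).comp (MvPolynomial.aeval w) =
      (Algebra.TensorProduct.lift (MvPolynomial.aeval w) ((Algebra.ofId k (Fn V)).comp gS) (fun _ _ => .all _ _)).comp
        (polyCo (k := k) m) := by
    apply MvPolynomial.algHom_ext
    intro i
    rw [AlgHom.comp_apply, AlgHom.comp_apply, MvPolynomial.aeval_X, hw.T'_apply, polyCo_X, map_sum]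
    refine Finset.sum_congr rfl fun j _ => ?_
    simp [gS, Algebra.smul_def, Algebra.ofId_apply, ComodLib.antipode_antipode_apply, mul_comm]
  have := DFunLike.congr_fun h F
  rw [AlgHom.comp_apply, AlgHom.comp_apply, hF] at this
  rw [this]
  simp

end Linear

end Groth.Agent.HMProj
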