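import Groth.Agent.HMProj.Main
import Groth.Agent.HMProj.Invariant
import Groth.Agent.ComodLib.StableClosed
import Groth.Agent.S12543

/-!
# The numerical criterion of proper stability on a proper scheme
-/

set_option autoImplicit false
set_option backward.isDefEq.respectTransparency false
set_option backward.isDefEq.respectTransparency.types false
set_option linter.style.haveILetI false

universe u

open CategoryTheory CategoryTheory.Limits MonoidalCategory CartesianMonoidalCategory MonObj AlgebraicGeometry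
open TensorProduct WithConv

noncomputable section

namespace Groth.Agent.HMProj

open GrpSchLib GrpSchLib.Kunneth GrpSchLib.AffineHopf GrpSchLib.LineVec HMTorus

variable {k : Type u} [Field k] [IsAlgClosed k] [CharZero k]

section Vec

variable {A : Type u} [CommRing A] [HopfAlgebra k A] [Algebra.FiniteType k A] {κ : Type u} [Fintype κ]
  [HopfRep.Comod k A (MvPolynomial κ k)] [GLin.IsCoactAlg k A (MvPolynomial κ k)]

theorem actPt_smul_vec (hlin : GLin.IsLinear k A κ) (g : A →ₐ[k] k) (c : k) (u : κ → k) (i : κ) :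
    GLin.actPt k g (GLin.vecPt k κ (c • u)) (MvPolynomial.X i) =
      c * GLin.actPt k g (GLin.vecPt k κ u) (MvPolynomial.X i) := by
  choose m hm using hlin
  show g (GLin.orbitHom k A _ _) = c * g (GLin.orbitHom k A _ _)
  rw [ComodLib.orbitCoord_eq hm, ComodLib.orbitCoord_eq hm, map_sum, map_sum, Finset.mul_sum]
  exact Finset.sum_congr rfl fun t _ => by simp; ring

theorem stab_smul (hlin : GLin.IsLinear k A κ) {c : k} (hc : c ≠ 0) (u : κ → k) :
    ComodLib.stab (A := A) (GLin.vecPt k κ (c • u)) = ComodLib.stab (A := A) (GLin.vecPt k κ u) := by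
  ext g
  constructor
  · intro h
    refine MvPolynomial.algHom_ext fun i => mul_left_cancel₀ hc ?_
    have := DFunLike.congr_fun (h : GLin.actPt k g.ofConv _ = _) (MvPolynomial.X i)
    rw [actPt_smul_vec hlin] at this
    simpa using this
  · intro h
    refine MvPolynomial.algHom_ext fun i => ?_
    rw [actPt_smul_vec hlin, DFunLike.congr_fun (h : GLin.actPt k g.ofConv _ = _) (MvPolynomial.X i)]
    simp

/-- A homogeneous invariant of positive degree non zero at a stable vector, cutting out finite stabilisers. -/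
theorem exists_cutting (hlin : GLin.IsLinear k A κ) {α : A →ₗ[k] k} (hα : ComodLib.IsIntegral k α) (h1 : α 1 = 1)
    {u₀ : κ → k} (hs : GLin.IsStableVec k A u₀) (hss : GLin.IsSemistableVec k A u₀) :
    ∃ (F : MvPolynomial κ k) (d : ℕ), 0 < d ∧ F.IsHomogeneous d ∧ F ∈ GLin.invariants k A (MvPolynomial κ k) ∧
      MvPolynomial.aeval u₀ F ≠ 0 ∧
      ∀ u : κ → k, MvPolynomial.aeval u F ≠ 0 → (ComodLib.stab (A := A) (GLin.vecPt k κ u)).Finite := by
  classical
  haveI := ComodLib.Cartier0.isReduced (k := k) (A := A)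
  obtain ⟨S, hS, hSx⟩ := ComodLib.exists_fixed_cutting (k := k) (A := A) (R := MvPolynomial κ k) hα h1
  obtain ⟨f, hfS, hfu⟩ := (hSx _).1 ((ComodLib.isStablePt_iff _).1 hs)
  have hfinv : f ∈ GLin.invariants k A (MvPolynomial κ k) := hS hfS
  have hfin : ∀ u : κ → k, MvPolynomial.aeval u f ≠ 0 → (ComodLib.stab (A := A) (GLin.vecPt k κ u)).Finite :=
    fun u hu => ((hSx _).2 ⟨f, hfS, hu⟩).2
  have hne : ∃ e ∈ Finset.range (f.totalDegree + 1),
      MvPolynomial.aeval u₀ (MvPolynomial.homogeneousComponent e f) ≠ 0 := by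
    by_contra! h
    refine hfu ?_
    conv_lhs => rw [← MvPolynomial.sum_homogeneousComponent f, map_sum]
    exact Finset.sum_eq_zero fun e he => h e he
  obtain ⟨e, he, hue⟩ := hne
  have hss' : ¬ GLin.IsNullform k A u₀ := hss
  simp only [GLin.IsNullform, not_forall] at hss'
  obtain ⟨F₁, hF₁, d₁, hd₁, hF₁d, hF₁u⟩ := hss'
  refine ⟨MvPolynomial.homogeneousComponent e f * F₁, e + d₁, by omega,
    (MvPolynomial.homogeneousComponent_isHomogeneous e f).mul hF₁d,
    Subalgebra.mul_mem _ (ComodLib.homogeneousComponent_mem_invariants hlin hfinv e) hF₁,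
    by rw [map_mul]; exact mul_ne_zero hue hF₁u, fun u hu => ?_⟩
  rw [map_mul] at hu
  have hu' := left_ne_zero_of_mul hu
  let p : Polynomial k := ∑ i ∈ Finset.range (f.totalDegree + 1),
    Polynomial.monomial i (MvPolynomial.aeval u (MvPolynomial.homogeneousComponent i f))
  have hsc : ∀ (i : ℕ) (c : k), MvPolynomial.aeval (c • u) (MvPolynomial.homogeneousComponent i f) =
      c ^ i * MvPolynomial.aeval u (MvPolynomial.homogeneousComponent i f) := fun i c => by
    rw [MvPolynomial.aeval_def, MvPolynomial.aeval_def, MvPolynomial.eval₂_eq, MvPolynomial.eval₂_eq, Finset.mul_sum]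
    refine Finset.sum_congr rfl fun d hd => ?_
    have hdi := (MvPolynomial.homogeneousComponent_isHomogeneous i f) (MvPolynomial.mem_support_iff.1 hd)
    rw [Finsupp.weight_apply, Finsupp.sum] at hdi
    simp only [Pi.smul_apply, smul_eq_mul, mul_pow, Finset.prod_mul_distrib]
    rw [Finset.prod_pow_eq_pow_sum, show ∑ x ∈ d.support, d x = i by simpa using hdi]
    ring
  have hp : ∀ c : k, p.eval c = MvPolynomial.aeval (c • u) f := fun c => by
    conv_rhs => rw [← MvPolynomial.sum_homogeneousComponent f, map_sum]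
    simp only [p, Polynomial.eval_finset_sum, Polynomial.eval_monomial, hsc]
    exact Finset.sum_congr rfl fun i _ => mul_comm _ _
  have hp0 : p ≠ 0 := fun h0 => hu' (by
    have := congrArg (fun q => Polynomial.coeff q e) h0
    simp only [p, Polynomial.finset_sum_coeff, Polynomial.coeff_monomial, Polynomial.coeff_zero] at this
    rwa [Finset.sum_ite_eq' (Finset.range (f.totalDegree + 1)) e, if_pos he] at this)
  obtain ⟨c, hc, hc'⟩ : ∃ c : k, c ≠ 0 ∧ p.eval c ≠ 0 := by
    by_contra! h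
    refine hp0 (Polynomial.eq_zero_of_infinite_isRoot p ?_)
    exact ((Set.finite_singleton (0 : k)).infinite_compl).mono fun c hc => h c hc
  rw [← stab_smul hlin hc u]
  exact hfin _ (by rw [← hp]; exact hc')

end Vec

variable {G : Over (Spec (CommRingCat.of k))} [GrpObj G] {X : Over (Spec (CommRingCat.of k))} [IsProper X.hom]
  {a : AlgGrp.Action G X} (B : GLinSh.LinBun G a)

theorem valv_lift_act {f : Fn B.V} (hf : GLinSh.IsInvFn B.lift f) (g : 𝟙_ (Over (Spec (CommRingCat.of k))) ⟶ G)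
    (v : 𝟙_ (Over (Spec (CommRingCat.of k))) ⟶ B.V) : valv (CartesianMonoidalCategory.lift g v ≫ B.lift.act) f = valv v f := by
  refine algebraMap_unit_injective ?_
  rw [← appTop_eq_of_valv, ← appTop_eq_of_valv, Over.comp_left, GmPts.appTop_comp_apply,
    show B.lift.act.left.appTop f = (snd G B.V).left.appTop f from hf, ← GmPts.appTop_comp_apply, ← Over.comp_left,
    lift_snd]

section Cone

variable {A : Type u} [CommRing A] [HopfAlgebra k A] [Algebra.FiniteType k A] (j : sp k A ⟶ G) [IsMonHom j]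
  {κ : Type u} [Fintype κ] {w : κ → Fn B.V} {m : κ → κ → A}

omit [Fintype κ] [IsMonHom j] [Algebra.FiniteType k A] in
theorem valv_vec (v : 𝟙_ (Over (Spec (CommRingCat.of k))) ⟶ B.V) (F : MvPolynomial κ k) :
    valv v (MvPolynomial.aeval w F) = MvPolynomial.aeval (fun t => valv v (w t)) F := by
  rw [← AlgHom.comp_apply]
  exact DFunLike.congr_fun (MvPolynomial.algHom_ext fun i => by simp) F

theorem valv_lift_kpt (hw : haveI := isSeparated_V B; haveI := quasiCompact_V B; IsRepMat (liftA B j) w m)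
    (h : 𝟙_ (Over (Spec (CommRingCat.of k))) ⟶ sp k A)
    (v : 𝟙_ (Over (Spec (CommRingCat.of k))) ⟶ B.V) (g : A →ₐ[k] k)
    (hg : fn h = (Algebra.ofId k _).comp (g.comp (HopfAlgebra.antipodeAlgHom k A))) :
    haveI := isSeparated_V B; haveI := quasiCompact_V B
    letI := hw.comod; haveI := hw.isCoactAlg
    ∀ i, valv (CartesianMonoidalCategory.lift (h ≫ j) v ≫ B.lift.act) (w i) =
      GLin.actPt k g (GLin.vecPt k κ fun t => valv v (w t)) (MvPolynomial.X i) := by
  haveI := isSeparated_V B; haveI := quasiCompact_V B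
  letI := hw.comod; haveI := hw.isCoactAlg
  intro i
  refine algebraMap_unit_injective ?_
  rw [← appTop_eq_of_valv, ← ev_apply, ← lift_liftA, hw.ev_lift_act, hg]
  show _ = algebraMap k _ (g (GLin.orbitHom k A _ _))
  rw [ComodLib.orbitCoord_eq (m := fun i t => HopfAlgebra.antipode k (m i t)) (polyCo_X m), map_sum, map_sum]
  refine Finset.sum_congr rfl fun t _ => ?_
  rw [ev_apply, appTop_eq_of_valv, map_smul, smul_eq_mul, map_mul, _root_.mul_comm]
  rfl

end Cone

theorem isProperlyStable_of_pos (hG : Red.IsReductive G) (hB : HMNum.AmpleCover B)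
    (x : 𝟙_ (Over (Spec (CommRingCat.of k))) ⟶ X)
    (H : ∀ (l : Red.Gm (Spec (CommRingCat.of k)) ⟶ G) [IsMonHom l], l ≠ 1 → ∀ m : ℤ, HMNum.IsMu B l x m → 0 < m) :
    B.IsProperlyStablePt (x.left.base (IsLocalRing.closedPoint k)) := by
  classical
  haveI := B.atlas.affine
  haveI := isSeparated_V B
  haveI := quasiCompact_V B
  haveI := hB.1
  haveI : IsAffineHom G.hom := hG.1
  haveI : Smooth G.hom := hG.2.1
  obtain ⟨A, _, _, _, j, _, _, hLR⟩ := exists_coord hG
  haveI : LocallyOfFiniteType (sp k A).hom := by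
    haveI : IsIso j.left := inferInstanceAs (IsIso ((Over.forget _).map j))
    rw [← Over.w j]; infer_instance
  obtain ⟨α, hα, hα1⟩ := ComodLib.exists_integral_of_isLinearlyReductive hLR
  obtain ⟨N, κ, _, w, m, hN, hwt, hcov, hrep⟩ := exists_cone B j hB
  obtain ⟨U₀, hxU₀, y₀, hy₀⟩ := B.atlas.cover (x.left.base (IsLocalRing.closedPoint k))
  have hU₀ := HMTransLib.top_of_mem x hxU₀
  obtain ⟨v, hv, h₀, hv₀⟩ := exists_unit_pt (B.atlas.coord U₀ y₀ hy₀) x hU₀
  letI := hrep.comod
  haveI := hrep.isCoactAlg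
  let vec : κ → k := fun t => valv v (w t)
  have hne : vec ≠ 0 := by
    obtain ⟨i, hi⟩ := hcov (x.left.base (IsLocalRing.closedPoint k))
    exact Function.ne_iff.2 ⟨i, valv_ne_of_mem B hv hy₀ hU₀ h₀ hv₀ (hwt i) hi⟩
  have hvec : ∀ (lam : A →ₐc[k] LaurentPolynomial k) (M : ℤ), GLin.IsMu k A lam vec M →
      ∃ μ', HMNum.IsMu B (oneParam lam ≫ j) x μ' ∧ M = (N : ℤ) * μ' := fun lam M hM => by
    obtain ⟨μ', hμ'⟩ := HMTorus.exists_isMu B (oneParam lam ≫ j) x
    exact ⟨μ', hμ', (ComodLib.existsUnique_isMu lam hne).unique hM (isMu_vec B j hrep hwt hcov hv hy₀ hU₀ h₀ hv₀ lam hμ')⟩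
  have hs : GLin.IsStableVec k A vec := by
    refine (Groth.Agent.S12543.result k A hLR κ hrep.isLinear vec hne).2 fun lam hlam M hM => ?_
    obtain ⟨μ', hμ', rfl⟩ := hvec lam M hM
    refine mul_pos (by exact_mod_cast hN) (H _ (fun h1 => oneParam_ne_one lam hlam ?_) _ hμ')
    rw [← cancel_mono j, h1, MonObj.one_comp]
  have hnn : ∀ (l : Red.Gm (Spec (CommRingCat.of k)) ⟶ G) [IsMonHom l] (m' : ℤ), HMNum.IsMu B l x m' → 0 ≤ m' := by
    intro l _ m' hm'
    by_cases hl : l = 1
    · subst hl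
      obtain ⟨y, hlim, hwy⟩ := hm'
      obtain ⟨i, hi⟩ := hcov (x.left.base (IsLocalRing.closedPoint k))
      have hord := orbFn_order_iff B (1 : Red.Gm (Spec (CommRingCat.of k)) ⟶ G) hlim hwy v hv hy₀ hU₀ h₀
        (hv₀ ▸ isUnit_one) (hwt i)
      have hconst : orbFn B (1 : Red.Gm (Spec (CommRingCat.of k)) ⟶ G) v (w i) =
          algebraMap k (LaurentSeries k) (vec i) := by
        rw [orbFn, vK, MonObj.comp_one, GrpSchLib.act_one, Over.comp_left, GmPts.appTop_comp_apply, appTop_eq_of_valv]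
        have h2 := (ev (toUnit (sp k (LaurentSeries k)))).commutes (valv v (w i))
        rw [ev_apply] at h2
        rw [h2]
        exact ((LineGroups.spEquiv (k := k) (LaurentSeries k)).symm.commutes _)
      have hi0 : vec i ≠ 0 := valv_ne_of_mem B hv hy₀ hU₀ h₀ hv₀ (hwt i) hi
      by_contra hneg
      have := hord.1 0 (mul_pos (by exact_mod_cast hN) (by omega))
      rw [hconst] at this
      exact hi0 (by simpa [LaurentSeries.algebraMap_apply] using this)
    · exact (H l hl m' hm').le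
  have hss : GLin.IsSemistableVec k A vec := by
    refine (Groth.Agent.S12542.result k A hLR κ hrep.isLinear vec hne).2 fun lam M hM => ?_
    obtain ⟨μ', hμ', rfl⟩ := hvec lam M hM
    exact mul_nonneg (Int.natCast_nonneg N) (hnn _ _ hμ')
  obtain ⟨F, d, hd, hFd, hFinv, hFv, hFfin⟩ := exists_cutting hrep.isLinear hα hα1 hs hss
  let f := MvPolynomial.aeval w F
  have hfw : GLinSh.HasWeight B.atlas.chart (d * N) f := hasWeight_aeval B hwt hFd
  have hfi : GLinSh.IsInvFn B.lift f := (isInvFn_liftA_iff B j f).1 (hrep.isInvFn_aeval hFinv)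
  have hdN : 0 < d * N := Nat.mul_pos hd hN
  let U := nvOpen B.atlas hdN hfw
  have hUa : IsAffineOpen U := isAffineOpen_nvOpen B.atlas hB.2 hdN hfw
  have hxf : x.left.base (IsLocalRing.closedPoint k) ∈ GLinSh.nonvanishing B.π f := by
    rw [← hv]
    refine mem_nonvanishing_of_valv_ne B ?_
    show valv v (MvPolynomial.aeval w F) ≠ 0
    rw [valv_vec]
    exact hFv
  have hfin : ∀ y : 𝟙_ (Over (Spec (CommRingCat.of k))) ⟶ X, y.left.base (IsLocalRing.closedPoint k) ∈ U →
      Finite {g : 𝟙_ (Over (Spec (CommRingCat.of k))) ⟶ G // CartesianMonoidalCategory.lift g y ≫ a.act = y} := by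
    intro y hy
    obtain ⟨U₁, hyU₁, y₁, hy₁⟩ := B.atlas.cover (y.left.base (IsLocalRing.closedPoint k))
    have hU₁ := HMTransLib.top_of_mem y hyU₁
    obtain ⟨vy, hvy, h₁, hvy₁⟩ := exists_unit_pt (B.atlas.coord U₁ y₁ hy₁) y hU₁
    let u : κ → k := fun t => valv vy (w t)
    have hFu : MvPolynomial.aeval u F ≠ 0 := by
      rw [← valv_vec]
      exact valv_ne_of_mem B hvy hy₁ hU₁ h₁ hvy₁ hfw hy
    have hstab := hFfin u hFu
    haveI : IsMonHom (inv j) := by
      haveI : IsMonHom (asIso j).hom := ‹IsMonHom j›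
      exact inferInstanceAs (IsMonHom (asIso j).inv)
    let pA : (𝟙_ (Over (Spec (CommRingCat.of k))) ⟶ sp k A) → (A →ₐ[k] k) := fun h =>
      ((valv (V := sp k A) h).comp (toFn (k := k) (A := A)).toAlgHom).comp (HopfAlgebra.antipodeAlgHom k A)
    have hpA : ∀ h, fn h = (Algebra.ofId k _).comp ((pA h).comp (HopfAlgebra.antipodeAlgHom k A)) := fun h => by
      refine AlgHom.ext fun p => ?_
      show h.left.appTop _ = algebraMap k _ (valv (V := sp k A) h (toFn (k := k) (A := A) (HopfAlgebra.antipode k (HopfAlgebra.antipode k p))))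
      rw [ComodLib.antipode_antipode_apply, ← appTop_eq_of_valv]
      rfl
    have hscal : ∀ h : {g : 𝟙_ (Over (Spec (CommRingCat.of k))) ⟶ G // CartesianMonoidalCategory.lift g y ≫ a.act = y},
        ∃ c : k, c ^ d = 1 ∧ ∀ i, GLin.actPt k (pA (h.1 ≫ inv j)) (GLin.vecPt k κ u) (MvPolynomial.X i) = c * u i := by
      intro h
      have hπ : (CartesianMonoidalCategory.lift h.1 vy ≫ B.lift.act) ≫ B.π = y := by rw [lift_act_π, hvy, h.2]
      have h₂ : ⊤ ≤ (CartesianMonoidalCategory.lift h.1 vy ≫ B.lift.act).left ⁻¹ᵁ (B.π.left ⁻¹ᵁ U₁) := by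
        show ⊤ ≤ ((CartesianMonoidalCategory.lift h.1 vy ≫ B.lift.act) ≫ B.π).left ⁻¹ᵁ U₁
        rw [hπ, hU₁]
      obtain ⟨ε, hε⟩ : ∃ ε : k, HMNum.evalFn B.π y₁ (CartesianMonoidalCategory.lift h.1 vy ≫ B.lift.act) h₂ = algebraMap k _ ε := by
        refine ⟨gr (k := k) k ((toUnit (sp k k)).left.appTop (HMNum.evalFn B.π y₁ _ h₂)), ?_⟩
        have hb : ∀ z : Fn (𝟙_ (Over (Spec (CommRingCat.of k)))),
            z = algebraMap k _ (gr (k := k) k ((toUnit (sp k k)).left.appTop z)) := fun z => by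
          have := appTop_eq_of_valv (𝟙 (𝟙_ (Over (Spec (CommRingCat.of k))))) z
          rw [valv_eq_gr] at this
          simpa using this
        exact hb _
      refine ⟨ε ^ N, ?_, fun i => ?_⟩
      · have key : ∀ (n : ℕ) (z : Fn B.V), GLinSh.HasWeight B.atlas.chart n z →
            valv (CartesianMonoidalCategory.lift h.1 vy ≫ B.lift.act) z = ε ^ n * valv vy z := fun n z hz => by
          obtain ⟨c, hc⟩ := hz U₁ y₁ hy₁
          refine algebraMap_unit_injective ?_
          rw [map_mul, map_pow, ← appTop_eq_of_valv, ← appTop_eq_of_valv, appTop_of_weight B.π hc _ hπ h₂ hU₁.ge,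
            appTop_of_weight B.π hc _ hvy h₁ hU₁.ge, hε, hvy₁, one_pow, _root_.mul_one, _root_.mul_comm]
        have e := key _ f hfw
        rw [valv_lift_act B hfi, valv_vec] at e
        rw [← pow_mul, _root_.mul_comm N]
        exact (mul_eq_right₀ hFu).1 e.symm
      · have key : valv (CartesianMonoidalCategory.lift h.1 vy ≫ B.lift.act) (w i) = ε ^ N * valv vy (w i) := by
          obtain ⟨c, hc⟩ := hwt i U₁ y₁ hy₁
          refine algebraMap_unit_injective ?_
          rw [map_mul, map_pow, ← appTop_eq_of_valv, ← appTop_eq_of_valv, appTop_of_weight B.π hc _ hπ h₂ hU₁.ge,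
            appTop_of_weight B.π hc _ hvy h₁ hU₁.ge, hε, hvy₁, one_pow, _root_.mul_one, _root_.mul_comm]
        rw [← valv_lift_kpt B j hrep (h.1 ≫ inv j) vy (pA (h.1 ≫ inv j)) (hpA _) i]
        rw [Category.assoc, IsIso.inv_hom_id, Category.comp_id]
        exact key
    choose c hc hcu using hscal
    haveI : Finite {c : k // c ^ d = 1} := by
      refine Set.finite_coe_iff.2 ((Polynomial.nthRoots d (1 : k)).toFinset.finite_toSet.subset fun c (hc : c ^ d = 1) => ?_)
      simpa [Polynomial.mem_nthRoots hd] using hc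
    let Fib := fun c : {c : k // c ^ d = 1} =>
      {g : WithConv (A →ₐ[k] k) | GLin.actPt k g.ofConv (GLin.vecPt k κ u) = GLin.vecPt k κ (c.1 • u)}
    haveI : ∀ c, Finite (Fib c) := fun c => by
      rcases isEmpty_or_nonempty (Fib c) with h | ⟨⟨g₀, hg₀⟩⟩
      · infer_instance
      haveI := hstab.to_subtype
      refine Finite.of_injective (β := ComodLib.stab (A := A) (GLin.vecPt k κ u)) (fun g => ⟨g.1 * g₀⁻¹, ?_⟩)
        fun g g' h => Subtype.ext (mul_right_cancel (congrArg Subtype.val h))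
      show GLin.actPt k (g.1 * g₀⁻¹).ofConv (GLin.vecPt k κ u) = _
      rw [ComodLib.actPt_convMul, show GLin.actPt k g.1.ofConv (GLin.vecPt k κ u) = _ from g.2,
        ← show GLin.actPt k g₀.ofConv (GLin.vecPt k κ u) = _ from hg₀, ComodLib.actPt_inv_conv]
    refine Finite.of_injective (β := Σ c : {c : k // c ^ d = 1}, Fib c)
      (fun h => ⟨⟨c h, hc h⟩, toConv (pA (h.1 ≫ inv j)), MvPolynomial.algHom_ext fun i => by
        rw [show (toConv (pA (h.1 ≫ inv j))).ofConv = pA (h.1 ≫ inv j) from rfl, hcu]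
        simp⟩) fun h h' he => ?_
    have e := congrArg (fun s : (Σ c : {c : k // c ^ d = 1}, Fib c) => s.2.1.ofConv) he
    refine Subtype.ext ((cancel_mono (inv j)).1 (fn_injective ?_))
    rw [hpA, hpA]
    exact congrArg (fun g : A →ₐ[k] k => (Algebra.ofId k _).comp (g.comp (HopfAlgebra.antipodeAlgHom k A))) e
  refine ⟨⟨d * N, f, hdN, ⟨hfw, hfi⟩, hxf, U, rfl, hUa, closedOrbitsOn B j hfi rfl hUa hα hα1 hfin⟩, ?_⟩
  intro Ω _ _ T e p hp
  have hpx : p = toUnit T ≫ x := hom_eq_of_range e p x hp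
  subst hpx
  haveI := finite_stab_geom a (hfin x hxf) T e
  exact (GITQuot.Successive.isFinite_stabTo_iff a e _).2 this

/-- A rational point which is properly stable has positive numerical function. -/
theorem pos_of_isProperlyStable (hG : Red.IsReductive G) (x : 𝟙_ (Over (Spec (CommRingCat.of k))) ⟶ X)
    (hx : B.IsProperlyStablePt (x.left.base (IsLocalRing.closedPoint k)))
    (l : Red.Gm (Spec (CommRingCat.of k)) ⟶ G) [IsMonHom l] (hl : l ≠ 1) {m₀ : ℤ} (hμ : HMNum.IsMu B l x m₀) : 0 < m₀ := by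
  obtain ⟨⟨n, f, hn, hf, hxf, U, hU, -, hclU⟩, hfin⟩ := hx
  obtain ⟨h0, hlimU⟩ := nonneg_of_inv B hn hf l hμ hxf
  refine lt_of_le_of_ne h0 fun h00 => hl ?_
  haveI : IsAffineHom G.hom := hG.1
  haveI : Smooth G.hom := hG.2.1
  obtain ⟨A, _, _, _, j, _, _, -⟩ := exists_coord hG
  obtain ⟨y, hlim, -⟩ := hμ
  have hyU : y.left.base (IsLocalRing.closedPoint k) ∈ U := by
    show _ ∈ (U : Set X.left)
    rw [hU]
    exact hlimU h00.symm y hlim
  have hxU : x.left.base (IsLocalRing.closedPoint k) ∈ U := by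
    show _ ∈ (U : Set X.left)
    rw [hU]; exact hxf
  obtain ⟨g, hg⟩ := exists_translate_of_limit a l hlim hyU
    (hclU k (𝟙_ _) (Iso.refl _) x (by rintro _ ⟨p, rfl⟩; rw [closedPoint_eq p]; exact hxU))
  have hfs : Finite {g : 𝟙_ (Over (Spec (CommRingCat.of k))) ⟶ G // CartesianMonoidalCategory.lift g x ≫ a.act = x} :=
    (GITQuot.Successive.isFinite_stabTo_iff a (T := 𝟙_ (Over (Spec (CommRingCat.of k)))) (Iso.refl _) x).1
      (hfin k _ (Iso.refl _) x (Set.eq_singleton_iff_unique_mem.2 ⟨⟨_, rfl⟩, by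
        rintro _ ⟨p, rfl⟩; rw [closedPoint_eq p]⟩))
  haveI : Finite {h : 𝟙_ (Over (Spec (CommRingCat.of k))) ⟶ G // CartesianMonoidalCategory.lift h y ≫ a.act = y} := by
    refine Finite.of_injective (β := {g : 𝟙_ (Over (Spec (CommRingCat.of k))) ⟶ G // CartesianMonoidalCategory.lift g x ≫ a.act = x})
      (fun h => ⟨g⁻¹ * h.1 * g, ?_⟩) fun h h' e => Subtype.ext (by simpa using congrArg Subtype.val e)
    rw [← GrpSchLib.act_mul, hg, ← GrpSchLib.act_mul, h.2, ← hg, GrpSchLib.act_mul, inv_mul_cancel, GrpSchLib.act_one]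
  exact eq_one_of_fixes a j l (HMTransLib.isFixedBy_of_isLimitPt hlim) inferInstance

/-- The numerical criterion of proper stability. -/
theorem properlyStable_iff (hG : Red.IsReductive G) (hB : HMNum.AmpleCover B)
    (x : 𝟙_ (Over (Spec (CommRingCat.of k))) ⟶ X) (p : (𝟙_ (Over (Spec (CommRingCat.of k)))).left) :
    B.IsProperlyStablePt (x.left.base p) ↔
      ∀ (l : Red.Gm (Spec (CommRingCat.of k)) ⟶ G) [IsMonHom l], l ≠ 1 → ∀ m : ℤ, HMNum.IsMu B l x m → 0 < m := by
  rw [closedPoint_eq p]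
  exact ⟨fun hx l _ hl _ hm => pos_of_isProperlyStable B hG x hx l hl hm, isProperlyStable_of_pos B hG hB x⟩

end Groth.Agent.HMProj
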