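import Groth.Prelude.Def_GLinSh
import Mathlib.AlgebraicGeometry.Morphisms.Affine

/-!
# Sections of the powers of a line bundle in total-space form

A global function of weight `n` on the total space of a line bundle with a linear atlas is, in each admissible
coordinate, a unique coefficient times the `n`-th power of the coordinate; coefficients glue.
-/

set_option autoImplicit false
set_option backward.isDefEq.respectTransparency false
set_option backward.isDefEq.respectTransparency.types false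
set_option linter.style.haveILetI false

universe u

open CategoryTheory AlgebraicGeometry Opposite TopologicalSpace

noncomputable section

namespace Groth.Agent.HMProj

variable {S : Scheme.{u}} {X V : Over S} {π : V ⟶ X}

/-- Restriction on the base. -/
abbrev rX {U W : X.left.Opens} (h : W ≤ U) (c : Γ(X.left, U)) : Γ(X.left, W) :=
  X.left.presheaf.map (homOfLE h).op c

theorem rX_rX {U W W' : X.left.Opens} (h : W ≤ U) (h' : W' ≤ W) (c : Γ(X.left, U)) :
    rX h' (rX h c) = rX (h'.trans h) c := by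
  rw [rX, rX, ← CommRingCat.comp_apply, ← Functor.map_comp]; rfl

theorem rX_self {U : X.left.Opens} (h : U ≤ U) (c : Γ(X.left, U)) : rX h c = c := by
  rw [rX, Subsingleton.elim (homOfLE h) (𝟙 U), op_id, CategoryTheory.Functor.map_id]; rfl

variable (π) in
theorem res_res {U W W' : X.left.Opens} (h : W ≤ U) (h' : W' ≤ W) (y : Γ(V.left, π.left ⁻¹ᵁ U)) :
    GLinSh.res π h' (GLinSh.res π h y) = GLinSh.res π (h'.trans h) y := by
  rw [GLinSh.res, GLinSh.res, ← CommRingCat.comp_apply, ← Functor.map_comp]; rfl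

variable (π) in
theorem res_self {U : X.left.Opens} (h : U ≤ U) (y : Γ(V.left, π.left ⁻¹ᵁ U)) : GLinSh.res π h y = y := by
  rw [GLinSh.res, Subsingleton.elim (homOfLE (π.left.preimage_mono h)) (𝟙 _), op_id, CategoryTheory.Functor.map_id]
  rfl

variable (π) in
theorem res_resTop {U W : X.left.Opens} (h : W ≤ U) (f : Γ(V.left, ⊤)) :
    GLinSh.res π h (GLinSh.resTop π U f) = GLinSh.resTop π W f := by
  rw [GLinSh.res, GLinSh.resTop, ← CommRingCat.comp_apply, ← Functor.map_comp]; rfl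

variable (π) in
theorem res_app {U W : X.left.Opens} (h : W ≤ U) (c : Γ(X.left, U)) :
    GLinSh.res π h (π.left.app U c) = π.left.app W (rX h c) := by
  rw [GLinSh.res, rX, ← CommRingCat.comp_apply, ← CommRingCat.comp_apply]
  exact (congrArg (fun φ => (ConcreteCategory.hom φ) c) (Scheme.Hom.naturality π.left (homOfLE h).op)).symm

variable (π) in
theorem res_mul {U W : X.left.Opens} (h : W ≤ U) (a b : Γ(V.left, π.left ⁻¹ᵁ U)) :
    GLinSh.res π h (a * b) = GLinSh.res π h a * GLinSh.res π h b := map_mul _ a b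

variable (π) in
theorem res_pow {U W : X.left.Opens} (h : W ≤ U) (a : Γ(V.left, π.left ⁻¹ᵁ U)) (n : ℕ) :
    GLinSh.res π h (a ^ n) = GLinSh.res π h a ^ n := map_pow _ a n

variable (π) in
theorem res_zero {U W : X.left.Opens} (h : W ≤ U) : GLinSh.res π h (0 : Γ(V.left, π.left ⁻¹ᵁ U)) = 0 := map_zero _

variable (π) in
theorem res_sum {U W : X.left.Opens} (h : W ≤ U) {J : Type*} (s : Finset J) (a : J → Γ(V.left, π.left ⁻¹ᵁ U)) :
    GLinSh.res π h (∑ j ∈ s, a j) = ∑ j ∈ s, GLinSh.res π h (a j) := map_sum _ a s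

variable (π) in
theorem resTop_mul (U : X.left.Opens) (a b : Γ(V.left, ⊤)) :
    GLinSh.resTop π U (a * b) = GLinSh.resTop π U a * GLinSh.resTop π U b := map_mul _ a b

variable (π) in
theorem resTop_add (U : X.left.Opens) (a b : Γ(V.left, ⊤)) :
    GLinSh.resTop π U (a + b) = GLinSh.resTop π U a + GLinSh.resTop π U b := map_add _ a b

variable (π) in
theorem resTop_zero (U : X.left.Opens) : GLinSh.resTop π U (0 : Γ(V.left, ⊤)) = 0 := map_zero _

variable (π) in
theorem resTop_sum (U : X.left.Opens) {J : Type*} (s : Finset J) (a : J → Γ(V.left, ⊤)) :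
    GLinSh.resTop π U (∑ j ∈ s, a j) = ∑ j ∈ s, GLinSh.resTop π U (a j) := map_sum _ a s

/-- The equation of weight `n` over one open. -/
def IsCoeff (π : V ⟶ X) {U : X.left.Opens} (y : Γ(V.left, π.left ⁻¹ᵁ U)) (n : ℕ) (f : Γ(V.left, ⊤))
    (c : Γ(X.left, U)) : Prop :=
  GLinSh.resTop π U f = π.left.app U c * y ^ n

theorem IsCoeff.res {U W : X.left.Opens} {y : Γ(V.left, π.left ⁻¹ᵁ U)} {n : ℕ} {f : Γ(V.left, ⊤)}
    {c : Γ(X.left, U)} (hc : IsCoeff π y n f c) (h : W ≤ U) : IsCoeff π (GLinSh.res π h y) n f (rX h c) := by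
  have e := congrArg (GLinSh.res π h) hc
  rwa [res_resTop, res_mul, res_pow, res_app] at e

theorem poly_injective {U W : X.left.Opens} {y : Γ(V.left, π.left ⁻¹ᵁ U)} (hy : GLinSh.IsFibreCoord π U y)
    (hW : IsAffineOpen W) (hWU : W ≤ U) :
    Function.Injective (Polynomial.eval₂RingHom (π.left.app W).hom (GLinSh.res π hWU y)) :=
  (hy W hW hWU).injective

/-- A relation among powers of a coordinate has zero coefficients. -/
theorem coeff_eq_zero_of_sum {U : X.left.Opens} {y : Γ(V.left, π.left ⁻¹ᵁ U)} (hy : GLinSh.IsFibreCoord π U y)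
    (s : Finset ℕ) (c : ℕ → Γ(X.left, U)) (h : ∑ e ∈ s, π.left.app U (c e) * y ^ e = 0) :
    ∀ e ∈ s, c e = 0 := by
  intro e he
  refine X.left.sheaf.eq_of_locally_eq' (fun W : {W : X.left.affineOpens // W.1 ≤ U} => W.1.1) U
    (fun W => homOfLE W.2) ?_ _ _ fun W => ?_
  · intro x hx
    obtain ⟨W, hW, hxW, hWU⟩ := Opens.isBasis_iff_nbhd.1 X.left.isBasis_affineOpens hx
    exact Opens.mem_iSup.2 ⟨⟨⟨W, hW⟩, hWU⟩, hxW⟩
  · show rX W.2 (c e) = rX W.2 0
    rw [show rX W.2 (0 : Γ(X.left, U)) = 0 from map_zero _]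
    have h0 : Polynomial.eval₂RingHom (π.left.app W.1.1).hom (GLinSh.res π W.2 y)
        (∑ i ∈ s, Polynomial.C (rX W.2 (c i)) * Polynomial.X ^ i) = 0 := by
      simp only [map_sum, map_mul, map_pow, Polynomial.coe_eval₂RingHom, Polynomial.eval₂_C, Polynomial.eval₂_X]
      have h1 := congrArg (GLinSh.res π W.2) h
      rw [res_sum, res_zero] at h1
      refine Eq.trans (Finset.sum_congr rfl fun i _ => ?_) h1
      rw [res_mul, res_pow, res_app π W.2]
    have h2 := congrArg (fun p : Polynomial _ => p.coeff e) (poly_injective hy W.1.2 W.2 (h0.trans (map_zero _).symm))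
    simpa [Polynomial.coeff_C_mul, Polynomial.coeff_X_pow, he] using h2

theorem IsCoeff.unique {U : X.left.Opens} {y : Γ(V.left, π.left ⁻¹ᵁ U)} (hy : GLinSh.IsFibreCoord π U y) {n : ℕ}
    {f : Γ(V.left, ⊤)} {c c' : Γ(X.left, U)} (h : IsCoeff π y n f c) (h' : IsCoeff π y n f c') : c = c' := by
  refine sub_eq_zero.1 (coeff_eq_zero_of_sum hy {n} (fun _ => c - c') ?_ n (Finset.mem_singleton_self n))
  rw [Finset.sum_singleton, map_sub, sub_mul, ← (h : _ = _), ← (h' : _ = _), sub_self]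

theorem isFibreCoord_res {U W : X.left.Opens} {y : Γ(V.left, π.left ⁻¹ᵁ U)} (hy : GLinSh.IsFibreCoord π U y)
    (h : W ≤ U) : GLinSh.IsFibreCoord π W (GLinSh.res π h y) := by
  intro W' hW' hW'W
  rw [res_res]
  exact hy W' hW' (hW'W.trans h)

/-- A weight equation holding locally holds. -/
theorem exists_isCoeff_of_local {U : X.left.Opens} {y : Γ(V.left, π.left ⁻¹ᵁ U)} (hy : GLinSh.IsFibreCoord π U y)
    {n : ℕ} {f : Γ(V.left, ⊤)}
    (h : ∀ x ∈ U, ∃ (W : X.left.Opens) (hWU : W ≤ U), x ∈ W ∧ ∃ c, IsCoeff π (GLinSh.res π hWU y) n f c) :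
    ∃ c, IsCoeff π y n f c := by
  choose W hWU hxW c hc using h
  let ι : U → X.left.Opens := fun x => W x.1 x.2
  have hcov : U ≤ iSup ι := fun x hx => Opens.mem_iSup.2 ⟨⟨x, hx⟩, hxW x hx⟩
  obtain ⟨g, hg, -⟩ := X.left.sheaf.existsUnique_gluing' ι U (fun x => homOfLE (hWU x.1 x.2)) hcov
    (fun x => c x.1 x.2) fun x x' => by
      have e₁ : IsCoeff π _ n f (rX (inf_le_left : ι x ⊓ ι x' ≤ ι x) (c x.1 x.2)) := (hc x.1 x.2).res inf_le_left
      have e₂ : IsCoeff π _ n f (rX (inf_le_right : ι x ⊓ ι x' ≤ ι x') (c x'.1 x'.2)) := (hc x'.1 x'.2).res inf_le_right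
      rw [res_res] at e₁ e₂
      exact IsCoeff.unique (isFibreCoord_res hy _) e₁ e₂
  refine ⟨g, V.left.sheaf.eq_of_locally_eq' (fun x => π.left ⁻¹ᵁ ι x) _
    (fun x => homOfLE (π.left.preimage_mono (hWU x.1 x.2))) (fun v hv => ?_) _ _ fun x => ?_⟩
  · exact Opens.mem_iSup.2 ⟨⟨π.left.base v, hv⟩, hxW _ hv⟩
  · show GLinSh.res π (hWU x.1 x.2) _ = GLinSh.res π (hWU x.1 x.2) _
    rw [res_resTop, res_mul, res_pow, res_app]
    refine (hc x.1 x.2 : _ = _).trans ?_
    rw [← hg x]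
    rfl

variable (A : GLinSh.LinAtlas π)

/-- Weight can be tested on any covering family of charts. -/
theorem hasWeight_of_local {n : ℕ} {f : Γ(V.left, ⊤)}
    (h : ∀ x : X.left, ∀ U ∈ {U : X.left.Opens | x ∈ U}, ∀ y ∈ A.chart U, ∃ (W : X.left.Opens) (hWU : W ≤ U),
      x ∈ W ∧ ∃ c, IsCoeff π (GLinSh.res π hWU y) n f c) : GLinSh.HasWeight A.chart n f := fun U y hy =>
  exists_isCoeff_of_local (A.coord U y hy) fun x hx => h x U hx y hy

/-- It is enough to have the weight equation in one chart around each point. -/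
theorem hasWeight_of_charts {n : ℕ} {f : Γ(V.left, ⊤)}
    (h : ∀ x : X.left, ∃ (U : X.left.Opens) (y : Γ(V.left, π.left ⁻¹ᵁ U)), y ∈ A.chart U ∧
      ∃ (W : X.left.Opens) (hWU : W ≤ U), x ∈ W ∧ ∃ c, IsCoeff π (GLinSh.res π hWU y) n f c) :
    GLinSh.HasWeight A.chart n f := by
  refine hasWeight_of_local A fun x U' hxU' y' hy' => ?_
  obtain ⟨U, y, hy, W, hWU, hxW, c, hc⟩ := h x
  obtain ⟨d, hd, hlin⟩ := A.linear U U' y y' hy hy'
  refine ⟨W ⊓ U', inf_le_right, ⟨hxW, hxU'⟩, ?_⟩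
  have hle : W ⊓ U' ≤ U ⊓ U' := inf_le_inf_right _ hWU
  have hu : IsUnit (rX hle d) := hd.map (X.left.presheaf.map (homOfLE hle).op).hom
  refine ⟨rX inf_le_left c * (↑(hu.unit⁻¹) : Γ(X.left, W ⊓ U')) ^ n, ?_⟩
  have e := hc.res (inf_le_left : W ⊓ U' ≤ W)
  rw [res_res] at e
  have e' := congrArg (GLinSh.res π hle) hlin
  rw [res_res, res_mul, res_app, res_res] at e'
  unfold IsCoeff at e ⊢
  rw [e, e', mul_pow, map_mul, map_pow, ← mul_assoc, mul_assoc (π.left.app _ _), ← mul_pow, ← map_mul,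
    IsUnit.val_inv_mul, map_one, one_pow, mul_one]

theorem hasWeight_zero (n : ℕ) : GLinSh.HasWeight A.chart n (0 : Γ(V.left, ⊤)) := fun U y _ =>
  ⟨0, by rw [resTop_zero, map_zero, zero_mul]⟩

theorem hasWeight_add {n : ℕ} {f g : Γ(V.left, ⊤)} (hf : GLinSh.HasWeight A.chart n f)
    (hg : GLinSh.HasWeight A.chart n g) : GLinSh.HasWeight A.chart n (f + g) := fun U y hy => by
  obtain ⟨c, hc⟩ := hf U y hy
  obtain ⟨d, hd⟩ := hg U y hy
  exact ⟨c + d, by rw [resTop_add, map_add, add_mul, ← hc, ← hd]⟩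

theorem hasWeight_mul {n m : ℕ} {f g : Γ(V.left, ⊤)} (hf : GLinSh.HasWeight A.chart n f)
    (hg : GLinSh.HasWeight A.chart m g) : GLinSh.HasWeight A.chart (n + m) (f * g) := fun U y hy => by
  obtain ⟨c, hc⟩ := hf U y hy
  obtain ⟨d, hd⟩ := hg U y hy
  exact ⟨c * d, by
    rw [resTop_mul, map_mul, pow_add, hc, hd]; ring⟩

theorem hasWeight_appTop (c : Γ(X.left, ⊤)) : GLinSh.HasWeight A.chart 0 (π.left.appTop c) := fun U y _ =>
  ⟨rX le_top c, by
    rw [pow_zero, mul_one, ← res_app π le_top c]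
    rfl⟩

theorem hasWeight_one : GLinSh.HasWeight A.chart 0 (1 : Γ(V.left, ⊤)) := by
  simpa using hasWeight_appTop A (1 : Γ(X.left, ⊤))

theorem hasWeight_pow {n : ℕ} {f : Γ(V.left, ⊤)} (hf : GLinSh.HasWeight A.chart n f) (e : ℕ) :
    GLinSh.HasWeight A.chart (e * n) (f ^ e) := by
  induction e with
  | zero => simpa using hasWeight_one A
  | succ e ih => rw [pow_succ, add_mul, one_mul]; exact hasWeight_mul A ih hf

theorem hasWeight_sum {J : Type*} {n : ℕ} (s : Finset J) (f : J → Γ(V.left, ⊤))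
    (hf : ∀ j ∈ s, GLinSh.HasWeight A.chart n (f j)) : GLinSh.HasWeight A.chart n (∑ j ∈ s, f j) := by
  classical
  induction s using Finset.induction with
  | empty => simpa using hasWeight_zero A n
  | insert j s hj ih =>
    rw [Finset.sum_insert hj]
    exact hasWeight_add A (hf j (Finset.mem_insert_self _ _)) (ih fun i hi => hf i (Finset.mem_insert_of_mem hi))

/-- Homogeneous parts of a vanishing sum vanish. -/
theorem eq_zero_of_sum {J : Type*} (s : Finset J) (f : J → Γ(V.left, ⊤)) (e : J → ℕ) (he : Set.InjOn e s)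
    (hf : ∀ j ∈ s, GLinSh.HasWeight A.chart (e j) (f j)) (h : ∑ j ∈ s, f j = 0) : ∀ j ∈ s, f j = 0 := by
  classical
  intro j hj
  choose U hxU hne using A.cover
  choose y hy using hne
  refine V.left.sheaf.eq_of_locally_eq' (fun x : X.left => π.left ⁻¹ᵁ U x) ⊤ (fun x => homOfLE le_top)
    (fun v _ => Opens.mem_iSup.2 ⟨π.left.base v, hxU _⟩) _ _ fun x => ?_
  show GLinSh.resTop π (U x) (f j) = GLinSh.resTop π (U x) 0
  rw [show GLinSh.resTop π (U x) (0 : Γ(V.left, ⊤)) = 0 from map_zero _]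
  choose c hc using fun i (hi : i ∈ s) => hf i hi (U x) (y x) (hy x)
  let d : ℕ → Γ(X.left, U x) := fun i => ∑ t ∈ s.attach.filter (fun t => e t.1 = i), c t.1 t.2
  have hsum : ∑ i ∈ s.image e, π.left.app (U x) (d i) * y x ^ i = 0 := by
    have h1 := congrArg (GLinSh.resTop π (U x)) h
    rw [resTop_sum, resTop_zero] at h1
    refine Eq.trans ?_ h1
    rw [← Finset.sum_attach s fun i => GLinSh.resTop π (U x) (f i),
      ← Finset.sum_fiberwise_of_maps_to (t := s.image e) (g := fun t : {t // t ∈ s} => e t.1)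
        (fun t _ => Finset.mem_image_of_mem e t.2)]
    refine Finset.sum_congr rfl fun i _ => ?_
    rw [map_sum, Finset.sum_mul]
    refine Finset.sum_congr rfl fun t ht => ?_
    rw [← (Finset.mem_filter.1 ht).2]
    exact (hc t.1 t.2).symm
  have hd : d (e j) = c j hj := by
    show (∑ t ∈ s.attach.filter (fun t => e t.1 = e j), c t.1 t.2) = c j hj
    refine Finset.sum_eq_single (⟨j, hj⟩ : {t // t ∈ s}) (fun t ht hne => ?_) (fun hn => absurd ?_ hn)
    · exact absurd (Subtype.ext (he t.2 hj (Finset.mem_filter.1 ht).2)) hne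
    · exact Finset.mem_filter.2 ⟨Finset.mem_attach _ _, rfl⟩
  have h0 := coeff_eq_zero_of_sum (A.coord _ _ (hy x)) _ d hsum (e j) (Finset.mem_image_of_mem e hj)
  rw [hd] at h0
  rw [hc j hj, h0, map_zero, zero_mul]

section Nonvanishing

variable [IsAffineHom π.left]

/-- Over each point of a chart some point of the total space has invertible coordinate. -/
theorem exists_mem_basicOpen {U : X.left.Opens} {y : Γ(V.left, π.left ⁻¹ᵁ U)} (hy : GLinSh.IsFibreCoord π U y)
    {x : X.left} (hx : x ∈ U) : ∃ v : V.left, π.left.base v = x ∧ v ∈ V.left.basicOpen y := by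
  obtain ⟨W, hW, hxW, hWU⟩ := Opens.isBasis_iff_nbhd.1 X.left.isBasis_affineOpens hx
  replace hW : IsAffineOpen W := hW
  have hV : IsAffineOpen (π.left ⁻¹ᵁ W) := hW.preimage π.left
  let E := RingEquiv.ofBijective _ (hy W hW hWU)
  let p := hW.primeIdealOf ⟨x, hxW⟩
  let P : Ideal (Polynomial Γ(X.left, W)) := Ideal.map Polynomial.C p.asIdeal
  haveI : P.IsPrime := Ideal.isPrime_map_C_of_isPrime
  let Q : PrimeSpectrum Γ(V.left, π.left ⁻¹ᵁ W) := ⟨P.comap E.symm.toRingHom, inferInstance⟩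
  have hEC : ∀ c, E.symm (π.left.app W c) = Polynomial.C c := fun c => by
    rw [RingEquiv.symm_apply_eq]; simp [E]
  have hEy : E.symm (GLinSh.res π hWU y) = Polynomial.X := by
    rw [RingEquiv.symm_apply_eq]; simp [E]
  refine ⟨hV.fromSpec.base Q, ?_, ?_⟩
  · have h1 : π.left.base (hV.fromSpec.base Q) =
        hW.fromSpec.base ((Spec.map (π.left.app W)).base Q) := by
      have := congrArg (fun φ => (φ : Spec Γ(V.left, π.left ⁻¹ᵁ W) ⟶ X.left).base Q)
        (IsAffineOpen.SpecMap_appLE_fromSpec π.left hW hV le_rfl)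
      rw [Scheme.Hom.appLE_eq_app] at this
      exact this.symm
    rw [h1, show (Spec.map (π.left.app W)).base Q = p from ?_]
    · exact hW.fromSpec_primeIdealOf ⟨x, hxW⟩
    · refine PrimeSpectrum.ext (Ideal.ext fun c => ?_)
      show E.symm.toRingHom (π.left.app W c) ∈ P ↔ c ∈ p.asIdeal
      rw [RingEquiv.toRingHom_eq_coe, RingEquiv.coe_toRingHom, hEC, Ideal.mem_map_C_iff]
      exact ⟨fun h => by simpa using h 0, fun h i => by
        rw [Polynomial.coeff_C]; split_ifs <;> simp [h]⟩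
  · have h2 : hV.fromSpec.base Q ∈ V.left.basicOpen (GLinSh.res π hWU y) := by
      show Q ∈ hV.fromSpec ⁻¹ᵁ V.left.basicOpen _
      rw [hV.fromSpec_preimage_basicOpen, PrimeSpectrum.mem_basicOpen]
      show E.symm.toRingHom (GLinSh.res π hWU y) ∉ P
      rw [RingEquiv.toRingHom_eq_coe, RingEquiv.coe_toRingHom, hEy, Ideal.mem_map_C_iff]
      intro h
      exact p.2.ne_top ((Ideal.eq_top_iff_one _).2 (by simpa using h 1))
    rw [Scheme.basicOpen_res] at h2
    exact h2.2

/-- The nonvanishing locus in a chart. -/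
theorem nonvanishing_inter {U : X.left.Opens} {y : Γ(V.left, π.left ⁻¹ᵁ U)} (hy : GLinSh.IsFibreCoord π U y) {n : ℕ}
    (hn : 0 < n) {f : Γ(V.left, ⊤)} {c : Γ(X.left, U)} (hc : IsCoeff π y n f c) :
    GLinSh.nonvanishing π f ∩ U = (X.left.basicOpen c : Set X.left) := by
  have key : π.left ⁻¹ᵁ U ⊓ V.left.basicOpen f = π.left ⁻¹ᵁ X.left.basicOpen c ⊓ V.left.basicOpen y := by
    rw [← Scheme.basicOpen_res V.left f (homOfLE le_top).op]
    refine (congrArg V.left.basicOpen (hc : GLinSh.resTop π U f = _)).trans ?_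
    rw [
      Scheme.basicOpen_mul, ← Scheme.preimage_basicOpen, Scheme.basicOpen_pow _ _ hn]
  ext x
  constructor
  · rintro ⟨⟨v, hv, rfl⟩, hx⟩
    exact ((key.le ⟨hx, hv⟩).1 : _)
  · intro hx
    have hxU := X.left.basicOpen_le c hx
    obtain ⟨v, rfl, hv⟩ := exists_mem_basicOpen hy hxU
    exact ⟨⟨v, (key.ge ⟨hx, hv⟩).2, rfl⟩, hxU⟩

include A in
theorem isOpen_nonvanishing {n : ℕ} (hn : 0 < n) {f : Γ(V.left, ⊤)} (hf : GLinSh.HasWeight A.chart n f) :
    IsOpen (GLinSh.nonvanishing π f) := by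
  refine isOpen_iff_forall_mem_open.2 fun x hx => ?_
  obtain ⟨U, hxU, y, hy⟩ := A.cover x
  obtain ⟨c, hc⟩ := hf U y hy
  have e := nonvanishing_inter (A.coord U y hy) hn hc
  exact ⟨X.left.basicOpen c, fun z hz => (e.ge hz).1, (X.left.basicOpen c).isOpen, e.le ⟨hx, hxU⟩⟩

/-- The nonvanishing locus as an open. -/
def nvOpen {n : ℕ} (hn : 0 < n) {f : Γ(V.left, ⊤)} (hf : GLinSh.HasWeight A.chart n f) : X.left.Opens :=
  ⟨GLinSh.nonvanishing π f, isOpen_nonvanishing A hn hf⟩

theorem coe_nvOpen {n : ℕ} (hn : 0 < n) {f : Γ(V.left, ⊤)} (hf : GLinSh.HasWeight A.chart n f) :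
    (nvOpen A hn hf : Set X.left) = GLinSh.nonvanishing π f := rfl

include A in
theorem nonvanishing_pow {n : ℕ} (hn : 0 < n) {f : Γ(V.left, ⊤)} (hf : GLinSh.HasWeight A.chart n f) {e : ℕ}
    (he : 0 < e) : GLinSh.nonvanishing π (f ^ e) = GLinSh.nonvanishing π f := by
  rw [GLinSh.nonvanishing, GLinSh.nonvanishing, Scheme.basicOpen_pow _ _ he]

include A in
theorem nonvanishing_mul {n m : ℕ} (hn : 0 < n) (hm : 0 < m) {f g : Γ(V.left, ⊤)}
    (hf : GLinSh.HasWeight A.chart n f) (hg : GLinSh.HasWeight A.chart m g) :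
    GLinSh.nonvanishing π (f * g) = GLinSh.nonvanishing π f ∩ GLinSh.nonvanishing π g := by
  ext x
  obtain ⟨U, hxU, y, hy⟩ := A.cover x
  obtain ⟨c, hc⟩ := hf U y hy
  obtain ⟨d, hd⟩ := hg U y hy
  have e1 := Set.ext_iff.1 (nonvanishing_inter (A.coord U y hy) hn hc) x
  have e2 := Set.ext_iff.1 (nonvanishing_inter (A.coord U y hy) hm hd) x
  have hcd : IsCoeff π y (n + m) (f * g) (c * d) := by
    show GLinSh.resTop π U (f * g) = _
    rw [resTop_mul, map_mul, pow_add, hc, hd]; ring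
  have e3 := Set.ext_iff.1 (nonvanishing_inter (A.coord U y hy) (by omega) hcd) x
  rw [Scheme.basicOpen_mul, TopologicalSpace.Opens.coe_inf] at e3
  simp only [Set.mem_inter_iff, SetLike.mem_coe, hxU, and_true] at e1 e2 e3 ⊢
  rw [e1, e2, e3]

end Nonvanishing

section Ratio

/-- `r` is the quotient of `s` by `f` over the open `D`. -/
def IsRatio (π : V ⟶ X) (D : X.left.Opens) (f s : Γ(V.left, ⊤)) (r : Γ(X.left, D)) : Prop :=
  GLinSh.resTop π D s = π.left.app D r * GLinSh.resTop π D f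

theorem IsRatio.res {D D' : X.left.Opens} {f s : Γ(V.left, ⊤)} {r : Γ(X.left, D)} (h : IsRatio π D f s r)
    (hle : D' ≤ D) : IsRatio π D' f s (rX hle r) := by
  have e := congrArg (GLinSh.res π hle) h
  rwa [res_resTop, res_mul, res_resTop, res_app] at e

variable [IsAffineHom π.left]

include A in
theorem IsRatio.unique {n : ℕ} (hn : 0 < n) {f s : Γ(V.left, ⊤)} (hf : GLinSh.HasWeight A.chart n f)
    {D : X.left.Opens} (hD : (D : Set X.left) ⊆ GLinSh.nonvanishing π f) {r r' : Γ(X.left, D)}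
    (h : IsRatio π D f s r) (h' : IsRatio π D f s r') : r = r' := by
  choose U hxU hne using fun x : D => A.cover x.1
  choose y hy using hne
  refine X.left.sheaf.eq_of_locally_eq' (fun x : D => U x ⊓ D) D (fun x => homOfLE inf_le_right)
    (fun x hx => Opens.mem_iSup.2 ⟨⟨x, hx⟩, hxU _, hx⟩) _ _ fun x => ?_
  obtain ⟨c, hc⟩ := hf (U x) (y x) (hy x)
  have hcu : IsUnit (rX (inf_le_left : U x ⊓ D ≤ U x) c) := by
    have hle : U x ⊓ D ≤ X.left.basicOpen c := fun z hz =>
      (nonvanishing_inter (A.coord _ _ (hy x)) hn hc).le ⟨hD hz.2, hz.1⟩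
    rw [← rX_rX (X.left.basicOpen_le c) hle]
    exact (RingedSpace.isUnit_res_basicOpen _ c).map (X.left.presheaf.map (homOfLE hle).op).hom
  have e₁ : IsRatio π (U x ⊓ D) f s (rX inf_le_right r) := h.res inf_le_right
  have e₂ : IsRatio π (U x ⊓ D) f s (rX inf_le_right r') := h'.res inf_le_right
  have ef := IsCoeff.res (π := π) (y := y x) (n := n) (f := f) (c := c) hc (inf_le_left : U x ⊓ D ≤ U x)
  unfold IsCoeff at ef
  have key : IsCoeff π (GLinSh.res π (inf_le_left : U x ⊓ D ≤ U x) (y x)) n s (rX inf_le_right r * rX inf_le_left c) ∧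
      IsCoeff π (GLinSh.res π (inf_le_left : U x ⊓ D ≤ U x) (y x)) n s (rX inf_le_right r' * rX inf_le_left c) := by
    constructor <;> unfold IsCoeff
    · rw [show GLinSh.resTop π _ s = _ from e₁, ef, map_mul, mul_assoc]
    · rw [show GLinSh.resTop π _ s = _ from e₂, ef, map_mul, mul_assoc]
  exact hcu.mul_left_injective (IsCoeff.unique (isFibreCoord_res (A.coord _ _ (hy x)) _) key.1 key.2)

include A in
theorem exists_ratio {n : ℕ} (hn : 0 < n) {f s : Γ(V.left, ⊤)} (hf : GLinSh.HasWeight A.chart n f)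
    (hs : GLinSh.HasWeight A.chart n s) {D : X.left.Opens} (hD : (D : Set X.left) ⊆ GLinSh.nonvanishing π f) :
    ∃ r, IsRatio π D f s r := by
  choose U hxU hne using fun x : D => A.cover x.1
  choose y hy using hne
  let ι : D → X.left.Opens := fun x => U x ⊓ D
  have hloc : ∀ x, ∃ r : Γ(X.left, ι x), IsRatio π (ι x) f s r := fun x => by
    obtain ⟨c, hc⟩ := hf (U x) (y x) (hy x)
    obtain ⟨d, hd⟩ := hs (U x) (y x) (hy x)
    have hcu : IsUnit (rX (inf_le_left : U x ⊓ D ≤ U x) c) := by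
      have hle : U x ⊓ D ≤ X.left.basicOpen c := fun z hz =>
        (nonvanishing_inter (A.coord _ _ (hy x)) hn hc).le ⟨hD hz.2, hz.1⟩
      rw [← rX_rX (X.left.basicOpen_le c) hle]
      exact (RingedSpace.isUnit_res_basicOpen _ c).map (X.left.presheaf.map (homOfLE hle).op).hom
    refine ⟨rX (inf_le_left : U x ⊓ D ≤ U x) d * (↑(hcu.unit⁻¹) : Γ(X.left, U x ⊓ D)), ?_⟩
    have ef := IsCoeff.res (π := π) (y := y x) (n := n) (f := f) (c := c) hc (inf_le_left : U x ⊓ D ≤ U x)
    have es := IsCoeff.res (π := π) (y := y x) (n := n) (f := s) (c := d) hd (inf_le_left : U x ⊓ D ≤ U x)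
    unfold IsCoeff at ef es
    show GLinSh.resTop π (U x ⊓ D) s = _
    rw [es, ef, ← mul_assoc, ← map_mul, mul_assoc, IsUnit.val_inv_mul, mul_one]
  choose r hr using hloc
  have hιD : ∀ x, ι x ≤ D := fun x => inf_le_right
  obtain ⟨g, hg, -⟩ := X.left.sheaf.existsUnique_gluing' ι D (fun x => homOfLE (hιD x))
    (fun x hx => Opens.mem_iSup.2 ⟨⟨x, hx⟩, hxU _, hx⟩) r fun x x' => by
      have e₁ : IsRatio π (ι x ⊓ ι x') f s (rX (inf_le_left : ι x ⊓ ι x' ≤ ι x) (r x)) := (hr x).res inf_le_left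
      have e₂ : IsRatio π (ι x ⊓ ι x') f s (rX (inf_le_right : ι x ⊓ ι x' ≤ ι x') (r x')) := (hr x').res inf_le_right
      exact IsRatio.unique A hn hf (fun z hz => hD (hιD x ((inf_le_left : ι x ⊓ ι x' ≤ ι x) hz))) e₁ e₂
  refine ⟨g, V.left.sheaf.eq_of_locally_eq' (fun x => π.left ⁻¹ᵁ ι x) _
    (fun x => homOfLE (π.left.preimage_mono (hιD x))) (fun v hv => ?_) _ _ fun x => ?_⟩
  · exact Opens.mem_iSup.2 ⟨⟨π.left.base v, hv⟩, hxU _, hv⟩
  · show GLinSh.res π (hιD x) _ = GLinSh.res π (hιD x) _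
    rw [res_resTop, res_mul, res_app, res_resTop]
    refine (hr x : _ = _).trans ?_
    rw [← hg x]
    rfl

include A in
theorem basicOpen_ratio {n : ℕ} (hn : 0 < n) {f s : Γ(V.left, ⊤)} (hf : GLinSh.HasWeight A.chart n f)
    (hs : GLinSh.HasWeight A.chart n s) {D : X.left.Opens} (hD : (D : Set X.left) ⊆ GLinSh.nonvanishing π f)
    {r : Γ(X.left, D)} (hr : IsRatio π D f s r) :
    (X.left.basicOpen r : Set X.left) = (D : Set X.left) ∩ GLinSh.nonvanishing π s := by
  ext x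
  by_cases hx : x ∈ D
  swap
  · exact ⟨fun h => absurd (X.left.basicOpen_le r h) hx, fun h => absurd h.1 hx⟩
  obtain ⟨U, hxU, y, hy⟩ := A.cover x
  obtain ⟨c, hc⟩ := hf U y hy
  obtain ⟨d, hd⟩ := hs U y hy
  have e1 := Set.ext_iff.1 (nonvanishing_inter (A.coord U y hy) hn hc) x
  have e2 := Set.ext_iff.1 (nonvanishing_inter (A.coord U y hy) hn hd) x
  have ef := IsCoeff.res (π := π) (y := y) (n := n) (f := f) (c := c) hc (inf_le_left : U ⊓ D ≤ U)
  have es := IsCoeff.res (π := π) (y := y) (n := n) (f := s) (c := d) hd (inf_le_left : U ⊓ D ≤ U)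
  have er : IsRatio π _ f s (rX inf_le_right r) := hr.res (inf_le_right : U ⊓ D ≤ D)
  have key : IsCoeff π (GLinSh.res π (inf_le_left : U ⊓ D ≤ U) y) n s
      (rX inf_le_right r * rX inf_le_left c) := by
    unfold IsCoeff at ef ⊢
    rw [show GLinSh.resTop π _ s = _ from er, ef, map_mul, mul_assoc]
  have := congrArg (fun z => (X.left.basicOpen z : Set X.left))
    (IsCoeff.unique (isFibreCoord_res (A.coord U y hy) _) es key)
  simp only [Scheme.basicOpen_mul, rX, Scheme.basicOpen_res, TopologicalSpace.Opens.coe_inf] at this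
  have e3 := Set.ext_iff.1 this x
  simp only [Set.mem_inter_iff, SetLike.mem_coe, hxU, hx, and_true, true_and] at e1 e2 e3 ⊢
  rw [e2, e3]
  exact ⟨fun h => ⟨h, e1.1 (hD hx)⟩, fun h => h.1⟩

end Ratio

end Groth.Agent.HMProj
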